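import Cfsg.Agent.H65.Inv.Final
import Cfsg.Agent.H46.TypeE6

/-!
Checks of the chain of abelian radicals of type E6 (generated data).
-/

set_option autoImplicit false
set_option maxRecDepth 100000

open Cfsg.Lie Cfsg.Agent.H46

namespace Cfsg.Agent.H65.Inv.E6

/-- The exchange of orthogonal sets. -/
def swap : Swap := ⟨[36, 39, 56, 71], [39, 56, 71], [52, 20, 18, 9]⟩

theorem swap_ok : swapOk goodE6 swap = true := by decide +kernel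

/-- The roots below level zero. -/
def P0 : List ℕ := []

/-- The radical of level 0. -/
def Q0 : List ℕ := [56]

/-- The roots below level 1. -/
def P1 : List ℕ := P0 ++ Q0

/-- The sets at the start. -/
def L0 : List (List ℕ) := [[]]

/-- The sets after level 0. -/
def L1 : List (List ℕ) := [[], [56]]

theorem rad0 : radOk goodE6 P0 Q0 = true := by decide +kernel

theorem set0_0 : setOk goodE6 swap P0 Q0 L1 [] [[], []] = true := by decide +kernel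

/-- The radical of level 1. -/
def Q1 : List ℕ := [42, 57]

/-- The roots below level 2. -/
def P2 : List ℕ := P1 ++ Q1

/-- The sets after level 1. -/
def L2 : List (List ℕ) := [[], [42]]

theorem rad1 : radOk goodE6 P1 Q1 = true := by decide +kernel

theorem set1_0 : setOk goodE6 swap P1 Q1 L2 [] [[], [], [0]] = true := by decide +kernel

theorem set1_1 : setOk goodE6 swap P1 Q1 L2 [56] [[2, 0]] = true := by decide +kernel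

/-- The radical of level 2. -/
def Q2 : List ℕ := [39, 43, 58]

/-- The roots below level 3. -/
def P3 : List ℕ := P2 ++ Q2

/-- The sets after level 2. -/
def L3 : List (List ℕ) := [[], [39], [42, 58]]

theorem rad2 : radOk goodE6 P2 Q2 = true := by decide +kernel

theorem set2_0 : setOk goodE6 swap P2 Q2 L3 [] [[], [], [2], [0, 2]] = true := by decide +kernel

theorem set2_1 : setOk goodE6 swap P2 Q2 L3 [42] [[3, 2], []] = true := by decide +kernel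

/-- The radical of level 3. -/
def Q3 : List ℕ := [37, 40, 44, 59]

/-- The roots below level 4. -/
def P4 : List ℕ := P3 ++ Q3

/-- The sets after level 3. -/
def L4 : List (List ℕ) := [[], [37], [39, 44]]

theorem rad3 : radOk goodE6 P3 Q3 = true := by decide +kernel

theorem set3_0 : setOk goodE6 swap P3 Q3 L4 [] [[], [], [3], [2, 3], [0, 2, 3]] = true := by decide +kernel

theorem set3_1 : setOk goodE6 swap P3 Q3 L4 [39] [[4, 3], [], [0]] = true := by decide +kernel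

theorem set3_2 : setOk goodE6 swap P3 Q3 L4 [42, 58] [[4, 3, 2, 0]] = true := by decide +kernel

/-- The radical of level 4. -/
def Q4 : List ℕ := [46, 47, 48, 50, 51, 53, 61, 62, 64, 67]

/-- The roots below level 5. -/
def P5 : List ℕ := P4 ++ Q4

/-- The sets after level 4. -/
def L5 : List (List ℕ) := [[], [46], [46, 53], [37, 46], [37, 46, 53], [39, 44, 48, 50]]

theorem rad4 : radOk goodE6 P4 Q4 = true := by decide +kernel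

theorem set4_0 : setOk goodE6 swap P4 Q4 L5 [] [[], [], [], [0], [2, 0], [3], [3], [3, 0], [3, 2, 0], [4, 3], [2, 3], [4, 3, 0], [4, 3, 2, 0], [2, 3], [2, 3], [2, 3, 0], [2, 3, 2, 0], [4, 2, 3], [3], [0, 2, 3, 0], [4, 2, 3, 2, 0], [3, 4, 2, 3], [], [0, 2, 3, 2, 0], [4, 0, 2, 3, 2, 0], [0, 2, 3], [4, 3, 0], [0, 2, 3, 0], [0, 2, 3, 2, 0], [4, 0, 2, 3], [3, 0], [2, 3, 0], [4, 0, 2, 3, 2, 0], [3, 4, 0, 2, 3], [0], [2, 3, 2, 0], [4, 2, 3, 2, 0], [2, 3, 4, 0, 2, 3], [2, 0], [3, 2, 0], [4, 3, 2, 0]] = true := by decide +kernel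

theorem set4_1 : setOk goodE6 swap P4 Q4 L5 [37] [[3, 1, 4, 3], [], [], [0], [2, 0], [0, 2, 3, 1, 4, 3, 2, 0], [], [2, 3, 1, 4, 3, 2, 0], [0], [3, 1, 4, 3, 2, 0], [2, 0]] = true := by decide +kernel

theorem set4_2 : setOk goodE6 swap P4 Q4 L5 [39, 44] [[1, 3], [1, 3], [], [1, 4, 2, 3], []] = true := by decide +kernel

/-- The radical of level 5. -/
def Q5 : List ℕ := [36, 38, 41, 45, 49, 52, 54, 55, 60, 63, 65, 66, 68, 69, 70, 71]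

/-- The roots below level 6. -/
def P6 : List ℕ := P5 ++ Q5

/-- The sets after level 5. -/
def L6 : List (List ℕ) := [[], [71], [68, 66], [55, 65, 67]]

theorem rad5 : radOk goodE6 P5 Q5 = true := by decide +kernel

theorem set5_0 : setOk goodE6 swap P5 Q5 L6 [] [[], [4, 3, 1, 2, 3, 4, 0, 2, 3, 1], [4, 0, 2, 3, 1, 4, 2, 3, 0, 2, 0], [4, 2, 3, 1, 4, 2, 3, 0, 2, 0], [4, 3, 1, 4, 2, 3, 0, 2, 0], [4, 3, 1, 2, 3, 0, 2, 0], [4, 3, 1, 2, 3, 4, 0], [3, 1, 2, 3, 4, 0, 2, 3, 1], [0, 2, 3, 1, 4, 2, 3, 0, 2, 0], [2, 3, 1, 4, 2, 3, 0, 2, 0], [3, 1, 4, 2, 3, 0, 2, 0], [3, 1, 2, 3, 0, 2, 0], [3, 1, 2, 3, 4, 0], [1, 2, 3, 4, 0, 2, 3, 1], [0, 2, 3, 1, 4, 3, 0, 2, 0], [2, 3, 1, 4, 3, 0, 2, 0], [1, 4, 2, 3, 0, 2, 0], [1, 2, 3, 0, 2, 0], [1, 2, 3, 4, 0], [1, 3, 4, 0, 2, 3, 1], [0, 2, 3, 1,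 4, 3, 2, 0], [3, 1, 4, 3, 0, 2, 0], [1, 4, 3, 0, 2, 0], [1, 3, 0, 2, 0], [1, 3, 4, 0], [2, 3, 4, 0, 2, 3, 1], [0, 2, 3, 1, 4, 3, 2, 0], [2, 3, 1, 4, 3, 2, 0], [4, 2, 3, 0, 2, 0], [2, 3, 0, 2, 0], [2, 3, 4, 0], [3, 4, 0, 2, 3, 1], [0, 2, 3, 1, 4, 3, 0, 2, 0], [3, 1, 4, 3, 2, 0], [4, 3, 0, 2, 0], [3, 0, 2, 0], [3, 4, 0], [4, 0, 2, 3, 1], [0, 2, 3, 1, 4, 2, 3, 0, 2, 0], [1, 4, 3, 2, 0], [4, 3, 2, 0], [0, 2, 0], [4, 0], [0, 2, 3, 1], [4, 0, 2, 3, 1, 4, 2, 3, 0, 2, 0], [1, 3, 2, 0], [3, 2, 0], [2, 0], [0], [1, 3, 4, 2, 3, 1], [2, 3, 1, 4, 3, 2, 0], [3, 1, 4, 3, 2, 0], [1, 4, 3, 2, 0], [1, 3, 2, 0], [1, 3, 2], [3, 4, 2, 3, 1], [2, 3, 1, 4, 3, 0, 2, 0], [3, 1, 4, 3, 0, 2, 0], [4, 3, 2, 0], [3, 2, 0], [3, 2], [4, 2, 3, 1], [2, 3, 1, 4, 2, 3, 0, 2, 0], [1, 4, 3, 0, 2, 0], [4, 3, 0,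 2, 0], [2, 0], [2], [2, 3, 1], [4, 2, 3, 1, 4, 2, 3, 0, 2, 0], [1, 3, 0, 2, 0], [3, 0, 2, 0], [0, 2, 0], [], [4, 3, 1], [3, 1, 4, 2, 3, 0, 2, 0], [1, 4, 2, 3, 0, 2, 0], [4, 2, 3, 0, 2, 0], [0], [], [3, 1], [4, 3, 1, 4, 2, 3, 0, 2, 0], [1, 2, 3, 0, 2, 0], [2, 3, 0, 2, 0], [4, 0], [2], [1], [4, 3, 1, 2, 3, 0, 2, 0], [3, 1, 2, 3, 0, 2, 0], [2, 3, 4, 0], [3, 4, 0], [3, 2], [], [4, 3, 1, 2, 3, 4, 0], [3, 1, 2, 3, 4, 0], [1, 2, 3, 4, 0], [1, 3, 4, 0], [1, 3, 2]] = true := by decide +kernel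

theorem set5_1 : setOk goodE6 swap P5 Q5 L6 [46] [[3, 4, 5, 2, 3, 4, 0, 2, 3, 1], [3, 4, 2, 3, 1, 0, 2, 3, 4, 5, 0], [3, 4, 0, 2, 3, 1, 4, 0, 2, 3, 0], [3, 4, 2, 3, 1, 4, 0, 2, 3, 0], [3, 4, 2, 3, 1, 0, 2, 3, 0], [3, 4, 2, 3, 1, 0, 2, 3, 4, 5], [3, 4, 0, 2, 3, 1, 4, 0, 2, 3], [3, 4, 2, 3, 1, 4, 0, 2, 3], [3, 4, 2, 3, 1, 0, 2, 3], [0, 2, 3, 4, 5, 2, 3, 0, 2, 0], [3, 4, 0, 2, 3, 1, 4, 0, 2, 3], [2, 3, 4, 0, 2, 3, 0, 2, 0], [3, 4, 0, 2, 3, 0, 2, 0], [0, 2, 3, 4, 5, 2, 3, 4, 0], [3, 4, 0, 2, 3, 1, 4, 0, 2, 3, 0], [2, 3, 4, 5, 0, 2, 3, 0], [3, 4, 5, 0, 2, 3, 0], [2, 3, 4, 5, 2, 3, 0, 2, 0], [3, 4, 2, 3, 1, 4, 0, 2, 3], [2, 3, 4, 5, 0, 2, 3, 0], [3, 4, 2, 3, 0, 2, 0], [2, 3, 4, 5, 2, 3, 4, 0], [3, 4, 2, 3, 1, 4, 0, 2, 3, 0], [2, 3, 4, 0, 2, 3, 0, 2, 0], [3, 4, 5, 2, 3, 0], [3,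 4, 5, 2, 3, 0, 2, 0], [3, 4, 2, 3, 1, 0, 2, 3], [3, 4, 5, 0, 2, 3, 0], [3, 4, 5, 2, 3, 0], [3, 4, 5, 2, 3, 4, 0], [3, 4, 2, 3, 1, 0, 2, 3, 0], [3, 4, 0, 2, 3, 0, 2, 0], [3, 4, 2, 3, 0, 2, 0]] = true := by decide +kernel

theorem set5_2 : setOk goodE6 swap P5 Q5 L6 [46, 53] [[0, 2, 3, 4, 5, 4, 2, 3, 0, 2, 0], [4, 5, 2, 3, 4, 0, 2, 3, 0, 2, 0], [3, 1, 0, 2, 3, 4, 0, 2, 6, 4, 5, 2, 3, 1, 4, 3, 2, 0], [5, 2, 3, 4, 0, 2, 3, 0, 2, 0], [2, 3, 1, 0, 2, 3, 4, 0, 2, 6, 4, 5, 2, 3, 1, 4, 3, 2, 0], [4, 5, 3, 4, 0, 2, 3, 0, 2, 0], [2, 3, 1, 0, 2, 3, 4, 0, 2, 6, 4, 5, 2, 3, 1, 4, 3, 2, 0], [5, 3, 4, 0, 2, 3, 0, 2, 0], [3, 1, 0, 2, 3, 4, 0, 2, 6, 4, 5, 2, 3, 1, 4, 3, 2, 0]] = true := by decide +kernel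

theorem set5_3 : setOk goodE6 swap P5 Q5 L6 [37, 46] [[5, 3, 4, 2, 3, 1, 0, 2, 3, 4, 5]] = true := by decide +kernel

theorem set5_4 : setOk goodE6 swap P5 Q5 L6 [37, 46, 53] [[5, 3, 4, 0, 2, 3, 1, 4, 0, 2, 3]] = true := by decide +kernel

theorem set5_5 : setOk goodE6 swap P5 Q5 L6 [39, 44, 48, 50] [[5, 2, 3, 4, 0, 2, 3, 1, 6, 4, 5, 2, 3, 1, 4, 3, 2, 0]] = true := by decide +kernel

variable (F : Type*) [Field F] [Fintype F] [CharP F 2]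

theorem red0 : Reduces F goodE6 P0 L0 := reduces_nil _ List.mem_cons_self

theorem red1 : Reduces F goodE6 P1 L1 :=
  reduces_step (certs := [[[], []]]) goodE6 swap_ok rad0 rfl
    (by simp [L0, set0_0]) (red0 F)

theorem red2 : Reduces F goodE6 P2 L2 :=
  reduces_step (certs := [[[], [], [0]],
  [[2, 0]]]) goodE6 swap_ok rad1 rfl
    (by simp [L1, set1_0, set1_1]) (red1 F)

theorem red3 : Reduces F goodE6 P3 L3 :=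
  reduces_step (certs := [[[], [], [2], [0, 2]],
  [[3, 2], []]]) goodE6 swap_ok rad2 rfl
    (by simp [L2, set2_0, set2_1]) (red2 F)

theorem red4 : Reduces F goodE6 P4 L4 :=
  reduces_step (certs := [[[], [], [3], [2, 3], [0, 2, 3]],
  [[4, 3], [], [0]],
  [[4, 3, 2, 0]]]) goodE6 swap_ok rad3 rfl
    (by simp [L3, set3_0, set3_1, set3_2]) (red3 F)

theorem red5 : Reduces F goodE6 P5 L5 :=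
  reduces_step (certs := [[[], [], [], [0], [2, 0], [3], [3], [3, 0], [3, 2, 0], [4, 3], [2, 3], [4, 3, 0], [4, 3, 2, 0], [2, 3], [2, 3], [2, 3, 0], [2, 3, 2, 0], [4, 2, 3], [3], [0, 2, 3, 0], [4, 2, 3, 2, 0], [3, 4, 2, 3], [], [0, 2, 3, 2, 0], [4, 0, 2, 3, 2, 0], [0, 2, 3], [4, 3, 0], [0, 2, 3, 0], [0, 2, 3, 2, 0], [4, 0, 2, 3], [3, 0], [2, 3, 0], [4, 0, 2, 3, 2, 0], [3, 4, 0, 2, 3], [0], [2, 3, 2, 0], [4, 2, 3, 2, 0], [2, 3, 4, 0, 2, 3], [2, 0], [3, 2, 0], [4, 3, 2, 0]],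
  [[3, 1, 4, 3], [], [], [0], [2, 0], [0, 2, 3, 1, 4, 3, 2, 0], [], [2, 3, 1, 4, 3, 2, 0], [0], [3, 1, 4, 3, 2, 0], [2, 0]],
  [[1, 3], [1, 3], [], [1, 4, 2, 3], []]]) goodE6 swap_ok rad4 rfl
    (by simp [L4, set4_0, set4_1, set4_2]) (red4 F)

theorem red6 : Reduces F goodE6 P6 L6 :=
  reduces_step (certs := [[[], [4, 3, 1, 2, 3, 4, 0, 2, 3, 1], [4, 0, 2, 3, 1, 4, 2, 3, 0, 2, 0], [4, 2, 3, 1, 4, 2, 3, 0, 2, 0], [4, 3, 1, 4, 2, 3, 0, 2, 0], [4, 3, 1, 2, 3, 0, 2, 0], [4, 3, 1, 2, 3, 4, 0], [3, 1, 2, 3, 4, 0, 2, 3, 1], [0, 2, 3, 1, 4, 2, 3, 0, 2, 0], [2, 3, 1, 4, 2, 3, 0, 2, 0], [3, 1, 4, 2, 3, 0, 2, 0], [3, 1, 2, 3, 0, 2, 0], [3, 1, 2, 3, 4, 0], [1, 2, 3, 4, 0, 2, 3, 1], [0, 2, 3, 1, 4, 3, 0, 2, 0], [2, 3, 1, 4, 3, 0, 2, 0], [1, 4, 2, 3, 0, 2, 0], [1, 2, 3, 0, 2, 0], [1, 2,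 3, 4, 0], [1, 3, 4, 0, 2, 3, 1], [0, 2, 3, 1, 4, 3, 2, 0], [3, 1, 4, 3, 0, 2, 0], [1, 4, 3, 0, 2, 0], [1, 3, 0, 2, 0], [1, 3, 4, 0], [2, 3, 4, 0, 2, 3, 1], [0, 2, 3, 1, 4, 3, 2, 0], [2, 3, 1, 4, 3, 2, 0], [4, 2, 3, 0, 2, 0], [2, 3, 0, 2, 0], [2, 3, 4, 0], [3, 4, 0, 2, 3, 1], [0, 2, 3, 1, 4, 3, 0, 2, 0], [3, 1, 4, 3, 2, 0], [4, 3, 0, 2, 0], [3, 0, 2, 0], [3, 4, 0], [4, 0, 2, 3, 1], [0, 2, 3, 1, 4, 2, 3, 0, 2, 0], [1, 4, 3, 2, 0], [4, 3, 2, 0], [0, 2, 0], [4, 0], [0, 2, 3, 1], [4, 0, 2, 3, 1, 4, 2, 3, 0, 2, 0], [1, 3, 2, 0], [3, 2, 0], [2, 0], [0], [1, 3, 4, 2, 3, 1], [2, 3, 1, 4, 3, 2, 0], [3, 1, 4, 3, 2, 0], [1, 4, 3, 2, 0], [1, 3, 2, 0], [1, 3, 2], [3, 4, 2, 3, 1], [2, 3, 1, 4, 3, 0, 2, 0], [3, 1, 4, 3, 0, 2, 0], [4, 3, 2, 0], [3, 2, 0], [3, 2], [4, 2, 3, 1], [2, 3, 1, 4,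 2, 3, 0, 2, 0], [1, 4, 3, 0, 2, 0], [4, 3, 0, 2, 0], [2, 0], [2], [2, 3, 1], [4, 2, 3, 1, 4, 2, 3, 0, 2, 0], [1, 3, 0, 2, 0], [3, 0, 2, 0], [0, 2, 0], [], [4, 3, 1], [3, 1, 4, 2, 3, 0, 2, 0], [1, 4, 2, 3, 0, 2, 0], [4, 2, 3, 0, 2, 0], [0], [], [3, 1], [4, 3, 1, 4, 2, 3, 0, 2, 0], [1, 2, 3, 0, 2, 0], [2, 3, 0, 2, 0], [4, 0], [2], [1], [4, 3, 1, 2, 3, 0, 2, 0], [3, 1, 2, 3, 0, 2, 0], [2, 3, 4, 0], [3, 4, 0], [3, 2], [], [4, 3, 1, 2, 3, 4, 0], [3, 1, 2, 3, 4, 0], [1, 2, 3, 4, 0], [1, 3, 4, 0], [1, 3, 2]],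
  [[3, 4, 5, 2, 3, 4, 0, 2, 3, 1], [3, 4, 2, 3, 1, 0, 2, 3, 4, 5, 0], [3, 4, 0, 2, 3, 1, 4, 0, 2, 3, 0], [3, 4, 2, 3, 1, 4, 0, 2, 3, 0], [3, 4, 2, 3, 1, 0, 2, 3, 0], [3, 4, 2, 3, 1, 0, 2, 3, 4, 5], [3, 4, 0, 2, 3, 1, 4, 0, 2, 3], [3, 4, 2, 3, 1, 4, 0, 2, 3], [3, 4, 2, 3, 1, 0, 2, 3], [0, 2, 3, 4, 5, 2, 3, 0, 2, 0], [3, 4, 0, 2, 3, 1, 4, 0, 2, 3], [2, 3, 4, 0, 2, 3, 0, 2, 0], [3, 4, 0, 2, 3, 0, 2, 0], [0, 2, 3, 4, 5, 2, 3, 4, 0], [3, 4, 0, 2, 3, 1, 4, 0, 2, 3, 0], [2, 3, 4, 5, 0, 2, 3, 0], [3, 4, 5, 0, 2, 3, 0], [2, 3, 4, 5, 2, 3, 0, 2, 0], [3, 4, 2, 3, 1, 4, 0, 2, 3], [2, 3, 4, 5, 0, 2, 3, 0], [3, 4, 2, 3, 0, 2, 0], [2, 3, 4, 5, 2, 3, 4, 0], [3, 4, 2, 3, 1, 4, 0, 2, 3, 0], [2, 3, 4, 0, 2, 3, 0, 2, 0], [3, 4, 5, 2, 3, 0], [3, 4, 5, 2, 3, 0, 2, 0], [3, 4, 2, 3, 1, 0, 2, 3],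 [3, 4, 5, 0, 2, 3, 0], [3, 4, 5, 2, 3, 0], [3, 4, 5, 2, 3, 4, 0], [3, 4, 2, 3, 1, 0, 2, 3, 0], [3, 4, 0, 2, 3, 0, 2, 0], [3, 4, 2, 3, 0, 2, 0]],
  [[0, 2, 3, 4, 5, 4, 2, 3, 0, 2, 0], [4, 5, 2, 3, 4, 0, 2, 3, 0, 2, 0], [3, 1, 0, 2, 3, 4, 0, 2, 6, 4, 5, 2, 3, 1, 4, 3, 2, 0], [5, 2, 3, 4, 0, 2, 3, 0, 2, 0], [2, 3, 1, 0, 2, 3, 4, 0, 2, 6, 4, 5, 2, 3, 1, 4, 3, 2, 0], [4, 5, 3, 4, 0, 2, 3, 0, 2, 0], [2, 3, 1, 0, 2, 3, 4, 0, 2, 6, 4, 5, 2, 3, 1, 4, 3, 2, 0], [5, 3, 4, 0, 2, 3, 0, 2, 0], [3, 1, 0, 2, 3, 4, 0, 2, 6, 4, 5, 2, 3, 1, 4, 3, 2, 0]],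
  [[5, 3, 4, 2, 3, 1, 0, 2, 3, 4, 5]],
  [[5, 3, 4, 0, 2, 3, 1, 4, 0, 2, 3]],
  [[5, 2, 3, 4, 0, 2, 3, 1, 6, 4, 5, 2, 3, 1, 4, 3, 2, 0]]]) goodE6 swap_ok rad5 rfl
    (by simp [L5, set5_0, set5_1, set5_2, set5_3, set5_4, set5_5]) (red5 F)

theorem cover : coverOk chevE6 P6 = true := by decide +kernel

/-- Elements squaring to one are conjugate to products of the list. -/
theorem exists_conj {g : GL chevE6.Idx F} (hg : g ∈ chevE6.group F) (h2 : g * g = 1) :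
    ∃ h ∈ chevE6.group F, ∃ S ∈ L6, h * g * h⁻¹ = prodX goodE6 S :=
  exists_conj_prodX goodE6 cover (red6 F) hg h2

end Cfsg.Agent.H65.Inv.E6
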