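import Cfsg.Agent.H65.Inv.Final
import Cfsg.Agent.H46.TypeE7

/-!
Checks of the chain of abelian radicals of type E7 (generated data).
-/

set_option autoImplicit false
set_option maxRecDepth 100000

open Cfsg.Lie Cfsg.Agent.H46

namespace Cfsg.Agent.H65.Inv.E7

/-- The exchange of orthogonal sets. -/
def swap : Swap := ⟨[63, 66, 73, 125], [66, 73, 125], [105, 21, 19, 15]⟩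

theorem swap_ok : swapOk goodE7 swap = true := by decide +kernel

/-- The roots below level zero. -/
def P0 : List ℕ := []

/-- The radical of level 0. -/
def Q0 : List ℕ := [93]

/-- The roots below level 1. -/
def P1 : List ℕ := P0 ++ Q0

/-- The sets at the start. -/
def L0 : List (List ℕ) := [[]]

/-- The sets after level 0. -/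
def L1 : List (List ℕ) := [[], [93]]

theorem rad0 : radOk goodE7 P0 Q0 = true := by decide +kernel

theorem set0_0 : setOk goodE7 swap P0 Q0 L1 [] [[], []] = true := by decide +kernel

/-- The radical of level 1. -/
def Q1 : List ℕ := [73, 94]

/-- The roots below level 2. -/
def P2 : List ℕ := P1 ++ Q1

/-- The sets after level 1. -/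
def L2 : List (List ℕ) := [[], [73]]

theorem rad1 : radOk goodE7 P1 Q1 = true := by decide +kernel

theorem set1_0 : setOk goodE7 swap P1 Q1 L2 [] [[], [], [0]] = true := by decide +kernel

theorem set1_1 : setOk goodE7 swap P1 Q1 L2 [93] [[2, 0]] = true := by decide +kernel

/-- The radical of level 2. -/
def Q2 : List ℕ := [69, 74, 95]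

/-- The roots below level 3. -/
def P3 : List ℕ := P2 ++ Q2

/-- The sets after level 2. -/
def L3 : List (List ℕ) := [[], [69], [73, 95]]

theorem rad2 : radOk goodE7 P2 Q2 = true := by decide +kernel

theorem set2_0 : setOk goodE7 swap P2 Q2 L3 [] [[], [], [2], [0, 2]] = true := by decide +kernel

theorem set2_1 : setOk goodE7 swap P2 Q2 L3 [73] [[3, 2], []] = true := by decide +kernel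

/-- The radical of level 3. -/
def Q3 : List ℕ := [66, 70, 75, 96]

/-- The roots below level 4. -/
def P4 : List ℕ := P3 ++ Q3

/-- The sets after level 3. -/
def L4 : List (List ℕ) := [[], [66], [69, 75]]

theorem rad3 : radOk goodE7 P3 Q3 = true := by decide +kernel

theorem set3_0 : setOk goodE7 swap P3 Q3 L4 [] [[], [], [3], [2, 3], [0, 2, 3]] = true := by decide +kernel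

theorem set3_1 : setOk goodE7 swap P3 Q3 L4 [69] [[4, 3], [], [0]] = true := by decide +kernel

theorem set3_2 : setOk goodE7 swap P3 Q3 L4 [73, 95] [[4, 3, 2, 0]] = true := by decide +kernel

/-- The radical of level 4. -/
def Q4 : List ℕ := [78, 79, 80, 83, 84, 87, 99, 100, 103, 109]

/-- The roots below level 5. -/
def P5 : List ℕ := P4 ++ Q4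

/-- The sets after level 4. -/
def L5 : List (List ℕ) := [[], [78], [78, 87], [66, 78], [66, 78, 87], [69, 75, 80, 83]]

theorem rad4 : radOk goodE7 P4 Q4 = true := by decide +kernel

theorem set4_0 : setOk goodE7 swap P4 Q4 L5 [] [[], [], [], [0], [2, 0], [3], [3], [3, 0], [3, 2, 0], [4, 3], [2, 3], [4, 3, 0], [4, 3, 2, 0], [2, 3], [2, 3], [2, 3, 0], [2, 3, 2, 0], [4, 2, 3], [3], [0, 2, 3, 0], [4, 2, 3, 2, 0], [3, 4, 2, 3], [], [0, 2, 3, 2, 0], [4, 0, 2, 3, 2, 0], [0, 2, 3], [4, 3, 0], [0, 2, 3, 0], [0, 2, 3, 2, 0], [4, 0, 2, 3], [3, 0], [2, 3, 0], [4, 0, 2, 3, 2, 0], [3, 4, 0, 2, 3], [0], [2, 3, 2, 0], [4, 2, 3, 2, 0], [2, 3, 4, 0, 2, 3], [2, 0], [3,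 2, 0], [4, 3, 2, 0]] = true := by decide +kernel

theorem set4_1 : setOk goodE7 swap P4 Q4 L5 [66] [[3, 1, 4, 3], [], [], [0], [2, 0], [0, 2, 3, 1, 4, 3, 2, 0], [], [2, 3, 1, 4, 3, 2, 0], [0], [3, 1, 4, 3, 2, 0], [2, 0]] = true := by decide +kernel

theorem set4_2 : setOk goodE7 swap P4 Q4 L5 [69, 75] [[1, 3], [1, 3], [], [1, 4, 2, 3], []] = true := by decide +kernel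

/-- The radical of level 5. -/
def Q5 : List ℕ := [64, 67, 71, 76, 81, 85, 88, 90, 97, 101, 104, 106, 110, 112, 115, 119]

/-- The roots below level 6. -/
def P6 : List ℕ := P5 ++ Q5

/-- The sets after level 5. -/
def L6 : List (List ℕ) := [[], [64], [64, 90], [64, 78, 90], [78, 87, 104, 112]]

theorem rad5 : radOk goodE7 P5 Q5 = true := by decide +kernel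

theorem set5_0 : setOk goodE7 swap P5 Q5 L6 [] [[], [], [], [0], [2, 0], [3, 2, 0], [1, 3, 2, 0], [4], [4], [4, 0], [4, 2, 0], [4, 3, 2, 0], [1, 4, 3, 2, 0], [3, 4], [3, 4], [3, 4, 0], [3, 4, 2, 0], [3, 4, 3, 2, 0], [3, 1, 4, 3, 2, 0], [2, 3, 4], [2, 3, 4], [2, 3, 4, 0], [2, 3, 4, 2, 0], [2, 3, 4, 3, 2, 0], [2, 3, 1, 4, 3, 2, 0], [1, 3, 4], [2, 3, 4], [1, 3, 4, 0], [1, 3, 4, 2, 0], [1, 3, 4, 3, 2, 0], [3, 1, 3, 4, 3, 2, 0], [1, 2, 3, 4], [3, 4], [0, 2, 3, 4, 0], [1, 2, 3, 4, 2, 0], [1, 2, 3, 4, 3, 2, 0], [2, 3, 1, 3, 4, 3, 2, 0], [3, 1, 2, 3, 4], [4], [0, 2, 3, 4, 2, 0], [1, 0, 2, 3, 4, 2, 0], [3, 1, 2, 3, 4, 3, 2, 0], [2, 3, 1, 2, 3, 4, 3, 2, 0], [4,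 3, 1, 2, 3, 4], [], [0, 2, 3, 4, 3, 2, 0], [1, 0, 2, 3, 4, 3, 2, 0], [3, 1, 0, 2, 3, 4, 3, 2, 0], [2, 3, 1, 0, 2, 3, 4, 3, 2, 0], [0, 2, 3, 4], [1, 3, 4, 0], [0, 2, 3, 4, 0], [0, 2, 3, 4, 2, 0], [0, 2, 3, 4, 3, 2, 0], [0, 2, 3, 1, 4, 3, 2, 0], [1, 0, 2, 3, 4], [3, 4, 0], [2, 3, 4, 0], [1, 0, 2, 3, 4, 2, 0], [1, 0, 2, 3, 4, 3, 2, 0], [0, 2, 3, 1, 3, 4, 3, 2, 0], [3, 1, 0, 2, 3, 4], [4, 0], [2, 3, 4, 2, 0], [1, 2, 3, 4, 2, 0], [3, 1, 0, 2, 3, 4, 3, 2, 0], [0, 2, 3, 1, 2, 3, 4, 3, 2, 0], [4, 3, 1, 0, 2, 3, 4], [0], [2, 3, 4, 3, 2, 0], [1, 2, 3, 4, 3, 2, 0], [3, 1, 2, 3, 4, 3, 2, 0], [0, 2, 3, 1, 0, 2, 3, 4, 3, 2, 0], [2, 3, 1, 0, 2, 3, 4], [4, 2, 0], [3, 4,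 2, 0], [1, 3, 4, 2, 0], [2, 3, 1, 0, 2, 3, 4, 3, 2, 0], [0, 2, 3, 1, 0, 2, 3, 4, 3, 2, 0], [4, 2, 3, 1, 0, 2, 3, 4], [2, 0], [3, 4, 3, 2, 0], [1, 3, 4, 3, 2, 0], [2, 3, 1, 2, 3, 4, 3, 2, 0], [0, 2, 3, 1, 2, 3, 4, 3, 2, 0], [3, 4, 2, 3, 1, 0, 2, 3, 4], [3, 2, 0], [4, 3, 2, 0], [3, 1, 3, 4, 3, 2, 0], [2, 3, 1, 3, 4, 3, 2, 0], [0, 2, 3, 1, 3, 4, 3, 2, 0], [1, 3, 4, 2, 3, 1, 0, 2, 3, 4], [1, 3, 2, 0], [1, 4, 3, 2, 0], [3, 1, 4, 3, 2, 0], [2, 3, 1, 4, 3, 2, 0], [0, 2, 3, 1, 4, 3, 2, 0]] = true := by decide +kernel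

theorem set5_1 : setOk goodE7 swap P5 Q5 L6 [78] [[3, 4, 5, 1, 3, 4], [3, 4, 2, 3, 1, 0, 2, 3, 4, 5, 2, 3, 1, 0, 2, 3, 4, 3, 2, 0], [], [0], [2, 0], [3, 4, 2, 3, 1, 0, 2, 3, 4, 5, 0, 2, 3, 1, 0, 2, 3, 4, 3, 2, 0], [4], [4, 0], [4, 2, 0], [0, 2, 3, 4, 5, 1, 3, 4, 3, 2, 0], [4], [3, 4, 2, 3, 1, 3, 4, 2, 3, 0], [3, 4, 2, 3, 1, 3, 4, 2, 3, 2, 0], [0, 2, 3, 4, 5, 3, 1, 3, 4, 3, 2, 0], [], [2, 3, 4, 5, 1, 3, 4, 2, 3, 2, 0], [3, 4, 5, 1, 3, 4, 2, 3, 2, 0], [2, 3, 4, 5, 1, 3, 4, 3, 2, 0], [4, 0], [2, 3, 4, 5, 1, 3, 4, 2, 3, 2, 0], [3, 4, 5, 3, 1, 3, 4, 0, 2, 3, 2, 0], [2, 3, 4, 5, 3, 1, 3, 4, 3, 2, 0], [0], [3, 4, 2, 3, 1, 3, 4, 2, 3, 0], [3, 4, 5, 1, 3, 4, 0,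 2, 3, 2, 0], [3, 4, 5, 1, 3, 4, 3, 2, 0], [4, 2, 0], [3, 4, 5, 1, 3, 4, 2, 3, 2, 0], [3, 4, 5, 1, 3, 4, 0, 2, 3, 2, 0], [3, 4, 5, 3, 1, 3, 4, 3, 2, 0], [2, 0], [3, 4, 2, 3, 1, 3, 4, 2, 3, 2, 0], [3, 4, 5, 3, 1, 3, 4, 0, 2, 3, 2, 0]] = true := by decide +kernel

theorem set5_2 : setOk goodE7 swap P5 Q5 L6 [78, 87] [[0, 2, 3, 4, 5, 1, 3, 4, 2, 0], [4, 5, 3, 4, 2, 3, 1, 3, 4, 2, 3, 0], [], [5, 3, 4, 2, 3, 1, 3, 4, 2, 3, 0], [2], [3, 4, 5, 4, 3, 1, 3, 4, 2, 3, 0], [2], [5, 3, 4, 2, 3, 1, 3, 4, 2, 3, 2, 0], []] = true := by decide +kernel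

theorem set5_3 : setOk goodE7 swap P5 Q5 L6 [66, 78] [[5, 3, 4, 2, 3, 1, 0, 2, 3, 4, 5, 0, 2, 3, 1, 0, 2, 3, 4, 3, 2, 0]] = true := by decide +kernel

theorem set5_4 : setOk goodE7 swap P5 Q5 L6 [66, 78, 87] [[5, 4]] = true := by decide +kernel

theorem set5_5 : setOk goodE7 swap P5 Q5 L6 [69, 75, 80, 83] [[5, 4, 0, 2, 3, 1, 4, 2, 3, 0, 2, 0]] = true := by decide +kernel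

/-- The radical of level 6. -/
def Q6 : List ℕ := [63, 65, 68, 72, 77, 82, 86, 89, 91, 92, 98, 102, 105, 107, 108, 111, 113, 114, 116, 117, 118, 120, 121, 122, 123, 124, 125]

/-- The roots below level 7. -/
def P7 : List ℕ := P6 ++ Q6

/-- The sets after level 6. -/
def L7 : List (List ℕ) := [[], [125], [63, 125], [63, 92, 125], [63, 66, 125], [63, 66, 78, 125]]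

theorem rad6 : radOk goodE7 P6 Q6 = true := by decide +kernel

theorem set6_0 : setOk goodE7 swap P6 Q6 L7 [] [[], [5, 4, 3, 1, 2, 3, 4, 5, 0, 2, 3, 1, 4, 3, 2, 0], [0, 2, 3, 1, 4, 3, 2, 0], [], [2, 3, 1, 4, 3, 2, 0], [0], [3, 1, 4, 3, 2, 0], [2, 0], [1, 4, 3, 2, 0], [3, 2, 0], [1, 3, 2, 0], [4, 3, 2, 0], [4, 3, 2, 0], [4, 3, 2, 0], [3, 2, 0], [3, 2, 0], [2, 0], [2, 0], [0], [0], [], [], [4, 3, 1, 2, 3, 4, 5, 0, 2, 3, 1, 4, 3, 2, 0], [5, 0, 2, 3, 1, 4, 3, 2, 0], [5], [5, 2, 3, 1, 4, 3, 2, 0], [5, 0], [5, 3, 1, 4, 3, 2, 0], [5, 2, 0], [5, 1, 4, 3, 2, 0], [5, 3, 2, 0], [5, 1, 3, 2, 0], [5, 4, 3, 2, 0], [5, 4, 3, 2, 0], [5, 4, 3, 2, 0], [5, 3, 2, 0], [5,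 3, 2, 0], [5, 2, 0], [5, 2, 0], [5, 0], [5, 0], [5], [5], [3, 1, 2, 3, 4, 5, 0, 2, 3, 1, 4, 3, 2, 0], [4, 5, 0, 2, 3, 1, 4, 3, 2, 0], [4, 5], [4, 5, 2, 3, 1, 4, 3, 2, 0], [4, 5, 0], [4, 5, 3, 1, 4, 3, 2, 0], [4, 5, 2, 0], [4, 5, 1, 4, 3, 2, 0], [4, 5, 3, 2, 0], [4, 5, 1, 3, 2, 0], [4, 5, 4, 3, 2, 0], [4, 5, 4, 3, 2, 0], [4, 5, 4, 3, 2, 0], [4, 5, 3, 2, 0], [4, 5, 3, 2, 0], [4, 5, 2, 0], [4, 5, 2, 0], [4, 5, 0], [4, 5, 0], [4, 5], [4, 5], [1, 2, 3, 4, 5, 0, 2, 3, 1, 4, 3, 2, 0], [3, 4, 5, 0, 2, 3, 1, 4, 3, 2, 0], [3, 4, 5], [3, 4, 5, 2, 3, 1, 4, 3, 2, 0], [3, 4, 5, 0], [3, 4, 5, 3, 1, 4, 3, 2, 0], [3, 4, 5, 2, 0], [3, 4, 5, 1, 4, 3, 2, 0], [3, 4, 5, 3, 2,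 0], [3, 4, 5, 1, 3, 2, 0], [3, 4, 5, 4, 3, 2, 0], [3, 4, 5, 4, 3, 2, 0], [3, 4, 5, 4, 3, 2, 0], [3, 4, 5, 3, 2, 0], [3, 4, 5, 3, 2, 0], [3, 4, 5, 2, 0], [3, 4, 5, 2, 0], [3, 4, 5, 0], [3, 4, 5, 0], [3, 4, 5], [3, 4, 5], [1, 3, 4, 5, 0, 2, 3, 1, 4, 3, 2, 0], [2, 3, 4, 5, 0, 2, 3, 1, 4, 3, 2, 0], [2, 3, 4, 5], [2, 3, 4, 5, 2, 3, 1, 4, 3, 2, 0], [2, 3, 4, 5, 0], [2, 3, 4, 5, 3, 1, 4, 3, 2, 0], [2, 3, 4, 5, 2, 0], [2, 3, 4, 5, 1, 4, 3, 2, 0], [2, 3, 4, 5, 3, 2, 0], [2, 3, 4, 5, 1, 3, 2, 0], [2, 3, 4, 5, 4, 3, 2, 0], [2, 3, 4, 5, 4, 3, 2, 0], [2, 3, 4, 5, 4, 3, 2, 0], [2, 3, 4, 5, 3, 2, 0], [2, 3, 4, 5, 3, 2, 0], [2, 3, 4, 5, 2, 0], [2, 3, 4, 5, 2, 0], [2, 3,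 4, 5, 0], [2, 3, 4, 5, 0], [2, 3, 4, 5], [2, 3, 4, 5], [2, 3, 4, 5, 0, 2, 3, 1, 4, 3, 2, 0], [2, 3, 4, 5, 0, 2, 3, 1, 4, 3, 2, 0], [2, 3, 4, 5], [1, 3, 4, 5, 2, 3, 1, 4, 3, 2, 0], [1, 3, 4, 5, 0], [1, 3, 4, 5, 3, 1, 4, 3, 2, 0], [1, 3, 4, 5, 2, 0], [1, 3, 4, 5, 1, 4, 3, 2, 0], [1, 3, 4, 5, 3, 2, 0], [1, 3, 4, 5, 1, 3, 2, 0], [1, 3, 4, 5, 4, 3, 2, 0], [1, 3, 4, 5, 4, 3, 2, 0], [1, 3, 4, 5, 4, 3, 2, 0], [1, 3, 4, 5, 3, 2, 0], [1, 3, 4, 5, 3, 2, 0], [1, 3, 4, 5, 2, 0], [1, 3, 4, 5, 2, 0], [1, 3, 4, 5, 0], [1, 3, 4, 5, 0], [1, 3, 4, 5], [2, 3, 4, 5], [3, 4, 5, 0, 2, 3, 1, 4, 3, 2, 0], [3, 4, 5, 0, 2, 3, 1, 4, 3, 2, 0], [3, 4, 5], [0, 2, 3, 4, 5, 2, 3, 1, 4,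 3, 2, 0], [0, 2, 3, 4, 5, 0], [1, 2, 3, 4, 5, 3, 1, 4, 3, 2, 0], [1, 2, 3, 4, 5, 2, 0], [1, 2, 3, 4, 5, 1, 4, 3, 2, 0], [1, 2, 3, 4, 5, 3, 2, 0], [1, 2, 3, 4, 5, 1, 3, 2, 0], [1, 2, 3, 4, 5, 4, 3, 2, 0], [1, 2, 3, 4, 5, 4, 3, 2, 0], [1, 2, 3, 4, 5, 4, 3, 2, 0], [1, 2, 3, 4, 5, 3, 2, 0], [1, 2, 3, 4, 5, 3, 2, 0], [1, 2, 3, 4, 5, 2, 0], [1, 2, 3, 4, 5, 2, 0], [1, 2, 3, 4, 5, 0], [0, 2, 3, 4, 5, 0], [1, 2, 3, 4, 5], [3, 4, 5], [4, 5, 0, 2, 3, 1, 4, 3, 2, 0], [4, 5, 0, 2, 3, 1, 4, 3, 2, 0], [4, 5], [0, 2, 3, 4, 5, 3, 1, 4, 3, 2, 0], [0, 2, 3, 4, 5, 2, 0], [1, 0, 2, 3, 4, 5, 3, 1, 4, 3, 2, 0], [1, 0, 2, 3, 4, 5, 2, 0], [3, 1, 2, 3, 4, 5, 1, 4, 3, 2, 0], [3,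 1, 2, 3, 4, 5, 3, 2, 0], [3, 1, 2, 3, 4, 5, 1, 3, 2, 0], [3, 1, 2, 3, 4, 5, 4, 3, 2, 0], [3, 1, 2, 3, 4, 5, 4, 3, 2, 0], [3, 1, 2, 3, 4, 5, 4, 3, 2, 0], [3, 1, 2, 3, 4, 5, 3, 2, 0], [3, 1, 2, 3, 4, 5, 3, 2, 0], [3, 1, 2, 3, 4, 5, 2, 0], [1, 0, 2, 3, 4, 5, 2, 0], [3, 1, 2, 3, 4, 5, 0], [0, 2, 3, 4, 5, 2, 0], [3, 1, 2, 3, 4, 5], [4, 5], [5, 0, 2, 3, 1, 4, 3, 2, 0], [5, 0, 2, 3, 1, 4, 3, 2, 0], [5], [0, 2, 3, 4, 5, 1, 4, 3, 2, 0], [0, 2, 3, 4, 5, 3, 2, 0], [1, 0, 2, 3, 4, 5, 1, 4, 3, 2, 0], [1, 0, 2, 3, 4, 5, 3, 2, 0], [3, 1, 0, 2, 3, 4, 5, 1, 4, 3, 2, 0], [3, 1, 0, 2, 3, 4, 5, 3, 2, 0], [4, 3, 1, 2, 3, 4, 5, 1, 3, 2, 0], [4, 3, 1, 2, 3, 4, 5, 4, 3, 2, 0],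 [4, 3, 1, 2, 3, 4, 5, 4, 3, 2, 0], [4, 3, 1, 2, 3, 4, 5, 4, 3, 2, 0], [4, 3, 1, 2, 3, 4, 5, 3, 2, 0], [3, 1, 0, 2, 3, 4, 5, 3, 2, 0], [4, 3, 1, 2, 3, 4, 5, 2, 0], [1, 0, 2, 3, 4, 5, 3, 2, 0], [4, 3, 1, 2, 3, 4, 5, 0], [0, 2, 3, 4, 5, 3, 2, 0], [4, 3, 1, 2, 3, 4, 5], [5], [0, 2, 3, 1, 4, 3, 2, 0], [0, 2, 3, 1, 4, 3, 2, 0], [], [0, 2, 3, 4, 5, 1, 3, 2, 0], [0, 2, 3, 4, 5, 4, 3, 2, 0], [1, 0, 2, 3, 4, 5, 1, 3, 2, 0], [1, 0, 2, 3, 4, 5, 4, 3, 2, 0], [3, 1, 0, 2, 3, 4, 5, 1, 3, 2, 0], [3, 1, 0, 2, 3, 4, 5, 4, 3, 2, 0], [4, 3, 1, 0, 2, 3, 4, 5, 1, 3, 2, 0], [2, 3, 1, 0, 2, 3, 4, 5, 4, 3, 2, 0], [5, 4, 3, 1, 2, 3, 4, 5, 4, 3, 2, 0], [2, 3, 1, 0, 2, 3, 4, 5, 4,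 3, 2, 0], [5, 4, 3, 1, 2, 3, 4, 5, 3, 2, 0], [3, 1, 0, 2, 3, 4, 5, 4, 3, 2, 0], [5, 4, 3, 1, 2, 3, 4, 5, 2, 0], [1, 0, 2, 3, 4, 5, 4, 3, 2, 0], [5, 4, 3, 1, 2, 3, 4, 5, 0], [0, 2, 3, 4, 5, 4, 3, 2, 0], [5, 4, 3, 1, 2, 3, 4, 5], [], [1, 3, 4, 5, 2, 3, 1, 4, 3, 2, 0], [1, 3, 4, 5, 2, 3, 1, 4, 3, 2, 0], [1, 3, 4, 5, 0], [0, 2, 3, 4, 5, 2, 3, 1, 4, 3, 2, 0], [0, 2, 3, 4, 5, 0], [0, 2, 3, 4, 5, 3, 1, 4, 3, 2, 0], [0, 2, 3, 4, 5, 2, 0], [0, 2, 3, 4, 5, 1, 4, 3, 2, 0], [0, 2, 3, 4, 5, 3, 2, 0], [0, 2, 3, 4, 5, 1, 3, 2, 0], [0, 2, 3, 4, 5, 4, 3, 2, 0], [0, 2, 3, 4, 5, 4, 3, 2, 0], [0, 2, 3, 4, 5, 4, 3, 2, 0], [0, 2, 3, 4, 5, 3, 2, 0], [0, 2, 3, 4, 5, 3, 2, 0],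 [0, 2, 3, 4, 5, 2, 0], [0, 2, 3, 4, 5, 2, 0], [0, 2, 3, 4, 5, 0], [0, 2, 3, 4, 5, 0], [0, 2, 3, 4, 5], [1, 3, 4, 5, 0], [3, 4, 5, 2, 3, 1, 4, 3, 2, 0], [3, 4, 5, 2, 3, 1, 4, 3, 2, 0], [3, 4, 5, 0], [2, 3, 4, 5, 2, 3, 1, 4, 3, 2, 0], [2, 3, 4, 5, 0], [1, 0, 2, 3, 4, 5, 3, 1, 4, 3, 2, 0], [1, 0, 2, 3, 4, 5, 2, 0], [1, 0, 2, 3, 4, 5, 1, 4, 3, 2, 0], [1, 0, 2, 3, 4, 5, 3, 2, 0], [1, 0, 2, 3, 4, 5, 1, 3, 2, 0], [1, 0, 2, 3, 4, 5, 4, 3, 2, 0], [1, 0, 2, 3, 4, 5, 4, 3, 2, 0], [1, 0, 2, 3, 4, 5, 4, 3, 2, 0], [1, 0, 2, 3, 4, 5, 3, 2, 0], [1, 0, 2, 3, 4, 5, 3, 2, 0], [1, 0, 2, 3, 4, 5, 2, 0], [1, 0, 2, 3, 4, 5, 2, 0], [1, 0, 2, 3, 4, 5, 0], [2, 3, 4, 5, 0], [1, 0,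 2, 3, 4, 5], [3, 4, 5, 0], [4, 5, 2, 3, 1, 4, 3, 2, 0], [4, 5, 2, 3, 1, 4, 3, 2, 0], [4, 5, 0], [2, 3, 4, 5, 3, 1, 4, 3, 2, 0], [2, 3, 4, 5, 2, 0], [1, 2, 3, 4, 5, 3, 1, 4, 3, 2, 0], [1, 2, 3, 4, 5, 2, 0], [3, 1, 0, 2, 3, 4, 5, 1, 4, 3, 2, 0], [3, 1, 0, 2, 3, 4, 5, 3, 2, 0], [3, 1, 0, 2, 3, 4, 5, 1, 3, 2, 0], [3, 1, 0, 2, 3, 4, 5, 4, 3, 2, 0], [3, 1, 0, 2, 3, 4, 5, 4, 3, 2, 0], [3, 1, 0, 2, 3, 4, 5, 4, 3, 2, 0], [3, 1, 0, 2, 3, 4, 5, 3, 2, 0], [3, 1, 0, 2, 3, 4, 5, 3, 2, 0], [3, 1, 0, 2, 3, 4, 5, 2, 0], [1, 2, 3, 4, 5, 2, 0], [3, 1, 0, 2, 3, 4, 5, 0], [2, 3, 4, 5, 2, 0], [3, 1, 0, 2, 3, 4, 5], [4, 5, 0], [5, 2, 3, 1, 4, 3, 2, 0], [5, 2, 3, 1, 4, 3, 2, 0],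 [5, 0], [2, 3, 4, 5, 1, 4, 3, 2, 0], [2, 3, 4, 5, 3, 2, 0], [1, 2, 3, 4, 5, 1, 4, 3, 2, 0], [1, 2, 3, 4, 5, 3, 2, 0], [3, 1, 2, 3, 4, 5, 1, 4, 3, 2, 0], [3, 1, 2, 3, 4, 5, 3, 2, 0], [4, 3, 1, 0, 2, 3, 4, 5, 1, 3, 2, 0], [2, 3, 1, 0, 2, 3, 4, 5, 4, 3, 2, 0], [2, 3, 1, 0, 2, 3, 4, 5, 4, 3, 2, 0], [2, 3, 1, 0, 2, 3, 4, 5, 4, 3, 2, 0], [4, 3, 1, 0, 2, 3, 4, 5, 3, 2, 0], [3, 1, 2, 3, 4, 5, 3, 2, 0], [4, 3, 1, 0, 2, 3, 4, 5, 2, 0], [1, 2, 3, 4, 5, 3, 2, 0], [4, 3, 1, 0, 2, 3, 4, 5, 0], [2, 3, 4, 5, 3, 2, 0], [4, 3, 1, 0, 2, 3, 4, 5], [5, 0], [2, 3, 1, 4, 3, 2, 0], [2, 3, 1, 4, 3, 2, 0], [0], [2, 3, 4, 5, 1, 3, 2, 0], [2, 3, 4, 5, 4, 3, 2, 0], [1, 2, 3, 4, 5,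 1, 3, 2, 0], [1, 2, 3, 4, 5, 4, 3, 2, 0], [3, 1, 2, 3, 4, 5, 1, 3, 2, 0], [3, 1, 2, 3, 4, 5, 4, 3, 2, 0], [4, 3, 1, 2, 3, 4, 5, 1, 3, 2, 0], [4, 3, 1, 2, 3, 4, 5, 4, 3, 2, 0], [2, 3, 1, 0, 2, 3, 4, 5, 3, 2, 0], [4, 3, 1, 2, 3, 4, 5, 4, 3, 2, 0], [4, 2, 3, 1, 0, 2, 3, 4, 5, 3, 2, 0], [3, 1, 2, 3, 4, 5, 4, 3, 2, 0], [5, 4, 3, 1, 0, 2, 3, 4, 5, 2, 0], [1, 2, 3, 4, 5, 4, 3, 2, 0], [5, 4, 3, 1, 0, 2, 3, 4, 5, 0], [2, 3, 4, 5, 4, 3, 2, 0], [5, 4, 3, 1, 0, 2, 3, 4, 5], [0], [4, 5, 3, 1, 4, 3, 2, 0], [4, 5, 3, 1, 4, 3, 2, 0], [4, 5, 2, 0], [3, 4, 5, 3, 1, 4, 3, 2, 0], [3, 4, 5, 2, 0], [1, 3, 4, 5, 3, 1, 4, 3, 2, 0], [1, 3, 4, 5, 2, 0], [4, 3, 1, 2, 3, 4, 5, 4,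 3, 2, 0], [4, 3, 1, 2, 3, 4, 5, 4, 3, 2, 0], [5, 4, 3, 1, 2, 3, 4, 5, 4, 3, 2, 0], [2, 3, 1, 0, 2, 3, 4, 5, 4, 3, 2, 0], [2, 3, 1, 0, 2, 3, 4, 5, 4, 3, 2, 0], [2, 3, 1, 0, 2, 3, 4, 5, 4, 3, 2, 0], [2, 3, 1, 0, 2, 3, 4, 5, 3, 2, 0], [4, 3, 1, 2, 3, 4, 5, 4, 3, 2, 0], [2, 3, 1, 0, 2, 3, 4, 5, 2, 0], [1, 3, 4, 5, 2, 0], [2, 3, 1, 0, 2, 3, 4, 5, 0], [3, 4, 5, 2, 0], [2, 3, 1, 0, 2, 3, 4, 5], [4, 5, 2, 0], [5, 3, 1, 4, 3, 2, 0], [5, 3, 1, 4, 3, 2, 0], [5, 2, 0], [3, 4, 5, 1, 4, 3, 2, 0], [3, 4, 5, 3, 2, 0], [1, 3, 4, 5, 1, 4, 3, 2, 0], [1, 3, 4, 5, 3, 2, 0], [3, 1, 2, 3, 4, 5, 4, 3, 2, 0], [3, 1, 2, 3, 4, 5, 4, 3, 2, 0], [5, 4, 3, 1, 2, 3, 4, 5, 3, 2, 0], [3,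 1, 0, 2, 3, 4, 5, 4, 3, 2, 0], [3, 1, 0, 2, 3, 4, 5, 4, 3, 2, 0], [3, 1, 0, 2, 3, 4, 5, 4, 3, 2, 0], [4, 2, 3, 1, 0, 2, 3, 4, 5, 3, 2, 0], [3, 1, 2, 3, 4, 5, 4, 3, 2, 0], [4, 2, 3, 1, 0, 2, 3, 4, 5, 2, 0], [1, 3, 4, 5, 3, 2, 0], [4, 2, 3, 1, 0, 2, 3, 4, 5, 0], [3, 4, 5, 3, 2, 0], [4, 2, 3, 1, 0, 2, 3, 4, 5], [5, 2, 0], [3, 1, 4, 3, 2, 0], [3, 1, 4, 3, 2, 0], [2, 0], [3, 4, 5, 1, 3, 2, 0], [3, 4, 5, 4, 3, 2, 0], [1, 3, 4, 5, 1, 3, 2, 0], [1, 3, 4, 5, 4, 3, 2, 0], [3, 1, 2, 3, 4, 5, 3, 2, 0], [3, 1, 2, 3, 4, 5, 3, 2, 0], [4, 3, 1, 2, 3, 4, 5, 3, 2, 0], [3, 1, 0, 2, 3, 4, 5, 3, 2, 0], [3, 1, 0, 2, 3, 4, 5, 3, 2, 0], [3, 1, 0, 2, 3, 4, 5, 3, 2, 0], [4, 3, 1,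 0, 2, 3, 4, 5, 3, 2, 0], [3, 1, 2, 3, 4, 5, 3, 2, 0], [3, 4, 2, 3, 1, 0, 2, 3, 4, 5, 2, 0], [1, 3, 4, 5, 4, 3, 2, 0], [5, 4, 2, 3, 1, 0, 2, 3, 4, 5, 0], [3, 4, 5, 4, 3, 2, 0], [5, 4, 2, 3, 1, 0, 2, 3, 4, 5], [2, 0], [5, 1, 4, 3, 2, 0], [5, 1, 4, 3, 2, 0], [5, 3, 2, 0], [4, 5, 1, 4, 3, 2, 0], [4, 5, 3, 2, 0], [1, 3, 4, 5, 4, 3, 2, 0], [1, 3, 4, 5, 4, 3, 2, 0], [1, 2, 3, 4, 5, 4, 3, 2, 0], [1, 2, 3, 4, 5, 4, 3, 2, 0], [5, 4, 3, 1, 2, 3, 4, 5, 2, 0], [1, 0, 2, 3, 4, 5, 4, 3, 2, 0], [1, 0, 2, 3, 4, 5, 4, 3, 2, 0], [1, 0, 2, 3, 4, 5, 4, 3, 2, 0], [5, 4, 3, 1, 0, 2, 3, 4, 5, 2, 0], [1, 2, 3, 4, 5, 4, 3, 2, 0], [3, 4, 2, 3, 1, 0, 2, 3, 4, 5, 2, 0], [1, 3, 4, 5,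 4, 3, 2, 0], [3, 4, 2, 3, 1, 0, 2, 3, 4, 5, 0], [4, 5, 3, 2, 0], [3, 4, 2, 3, 1, 0, 2, 3, 4, 5], [5, 3, 2, 0], [1, 4, 3, 2, 0], [1, 4, 3, 2, 0], [3, 2, 0], [4, 5, 1, 3, 2, 0], [4, 5, 4, 3, 2, 0], [1, 3, 4, 5, 3, 2, 0], [1, 3, 4, 5, 3, 2, 0], [1, 2, 3, 4, 5, 3, 2, 0], [1, 2, 3, 4, 5, 3, 2, 0], [4, 3, 1, 2, 3, 4, 5, 2, 0], [1, 0, 2, 3, 4, 5, 3, 2, 0], [1, 0, 2, 3, 4, 5, 3, 2, 0], [1, 0, 2, 3, 4, 5, 3, 2, 0], [4, 3, 1, 0, 2, 3, 4, 5, 2, 0], [1, 2, 3, 4, 5, 3, 2, 0], [4, 2, 3, 1, 0, 2, 3, 4, 5, 2, 0], [1, 3, 4, 5, 3, 2, 0], [1, 3, 4, 2, 3, 1, 0, 2, 3, 4, 5, 0], [4, 5, 4, 3, 2, 0], [5, 3, 4, 2, 3, 1, 0, 2, 3, 4, 5], [3, 2, 0], [1, 3, 2, 0], [1, 3, 2, 0], [4,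 3, 2, 0], [5, 1, 3, 2, 0], [5, 4, 3, 2, 0], [1, 3, 4, 5, 2, 0], [1, 3, 4, 5, 2, 0], [1, 2, 3, 4, 5, 2, 0], [1, 2, 3, 4, 5, 2, 0], [3, 1, 2, 3, 4, 5, 2, 0], [1, 0, 2, 3, 4, 5, 2, 0], [1, 0, 2, 3, 4, 5, 2, 0], [1, 0, 2, 3, 4, 5, 2, 0], [3, 1, 0, 2, 3, 4, 5, 2, 0], [1, 2, 3, 4, 5, 2, 0], [2, 3, 1, 0, 2, 3, 4, 5, 2, 0], [1, 3, 4, 5, 2, 0], [1, 3, 4, 2, 3, 1, 0, 2, 3, 4, 5], [5, 4, 3, 2, 0], [5, 1, 3, 4, 2, 3, 1, 0, 2, 3, 4, 5], [4, 3, 2, 0], [5, 4, 3, 2, 0], [5, 4, 3, 2, 0], [5, 4, 3, 2, 0], [4, 5, 4, 3, 2, 0], [4, 5, 4, 3, 2, 0], [3, 4, 5, 4, 3, 2, 0], [3, 4, 5, 4, 3, 2, 0], [2, 3, 4, 5, 4, 3, 2, 0], [2, 3, 4, 5, 4, 3, 2, 0], [5, 4, 3, 1, 2, 3, 4, 5, 0], [0,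 2, 3, 4, 5, 4, 3, 2, 0], [0, 2, 3, 4, 5, 4, 3, 2, 0], [0, 2, 3, 4, 5, 4, 3, 2, 0], [5, 4, 3, 1, 0, 2, 3, 4, 5, 0], [2, 3, 4, 5, 4, 3, 2, 0], [5, 4, 2, 3, 1, 0, 2, 3, 4, 5, 0], [3, 4, 5, 4, 3, 2, 0], [1, 3, 4, 2, 3, 1, 0, 2, 3, 4, 5, 0], [4, 5, 4, 3, 2, 0], [1, 3, 4, 2, 3, 1, 0, 2, 3, 4, 5], [5, 4, 3, 2, 0], [4, 3, 2, 0], [4, 3, 2, 0], [4, 3, 2, 0], [4, 5, 3, 2, 0], [4, 5, 3, 2, 0], [3, 4, 5, 3, 2, 0], [3, 4, 5, 3, 2, 0], [2, 3, 4, 5, 3, 2, 0], [2, 3, 4, 5, 3, 2, 0], [4, 3, 1, 2, 3, 4, 5, 0], [0, 2, 3, 4, 5, 3, 2, 0], [0, 2, 3, 4, 5, 3, 2, 0], [0, 2, 3, 4, 5, 3, 2, 0], [4, 3, 1, 0, 2, 3, 4, 5, 0], [2, 3, 4, 5, 3, 2, 0], [4, 2, 3, 1, 0, 2, 3, 4, 5, 0], [3,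 4, 5, 3, 2, 0], [3, 4, 2, 3, 1, 0, 2, 3, 4, 5, 0], [4, 5, 3, 2, 0], [5, 1, 3, 4, 2, 3, 1, 0, 2, 3, 4, 5], [4, 3, 2, 0], [3, 2, 0], [3, 2, 0], [3, 2, 0], [5, 3, 2, 0], [5, 3, 2, 0], [3, 4, 5, 2, 0], [3, 4, 5, 2, 0], [2, 3, 4, 5, 2, 0], [2, 3, 4, 5, 2, 0], [3, 1, 2, 3, 4, 5, 0], [0, 2, 3, 4, 5, 2, 0], [0, 2, 3, 4, 5, 2, 0], [0, 2, 3, 4, 5, 2, 0], [3, 1, 0, 2, 3, 4, 5, 0], [2, 3, 4, 5, 2, 0], [2, 3, 1, 0, 2, 3, 4, 5, 0], [3, 4, 5, 2, 0], [3, 4, 2, 3, 1, 0, 2, 3, 4, 5], [5, 3, 2, 0], [5, 3, 4, 2, 3, 1, 0, 2, 3, 4, 5], [3, 2, 0], [2, 0], [2, 0], [2, 0], [5, 2, 0], [5, 2, 0], [4, 5, 2, 0], [4, 5, 2, 0], [2, 3, 4, 5, 0], [2, 3, 4, 5, 0], [1, 2, 3, 4, 5, 0], [0,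 2, 3, 4, 5, 0], [0, 2, 3, 4, 5, 0], [0, 2, 3, 4, 5, 0], [1, 0, 2, 3, 4, 5, 0], [2, 3, 4, 5, 0], [2, 3, 1, 0, 2, 3, 4, 5], [4, 5, 2, 0], [4, 2, 3, 1, 0, 2, 3, 4, 5], [5, 2, 0], [5, 4, 2, 3, 1, 0, 2, 3, 4, 5], [2, 0], [0], [0], [0], [5, 0], [5, 0], [4, 5, 0], [4, 5, 0], [3, 4, 5, 0], [3, 4, 5, 0], [1, 3, 4, 5, 0], [1, 3, 4, 5, 0], [0, 2, 3, 4, 5], [1, 3, 4, 5, 0], [1, 0, 2, 3, 4, 5], [3, 4, 5, 0], [3, 1, 0, 2, 3, 4, 5], [4, 5, 0], [4, 3, 1, 0, 2, 3, 4, 5], [5, 0], [5, 4, 3, 1, 0, 2, 3, 4, 5], [0], [], [], [], [5], [5], [4, 5], [4, 5], [3, 4, 5], [3, 4, 5], [2, 3, 4, 5], [2, 3, 4, 5], [1, 3, 4, 5], [2, 3, 4, 5], [1, 2, 3, 4, 5], [3, 4, 5], [3, 1, 2, 3, 4,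 5], [4, 5], [4, 3, 1, 2, 3, 4, 5], [5], [5, 4, 3, 1, 2, 3, 4, 5], []] = true := by decide +kernel

theorem set6_1 : setOk goodE7 swap P6 Q6 L7 [64] [[6, 4, 3, 1, 2, 3, 4, 5, 0, 2, 3, 1, 4, 3, 2, 0], [3, 4, 2, 3, 1, 0, 2, 3, 4, 5, 6, 4, 3, 1, 2, 3, 4, 5, 1, 3, 2, 0], [4, 5, 3, 4, 0, 2, 3, 1, 3, 4, 2, 3, 2, 0], [6, 0, 2, 3, 4, 5, 1, 3, 4, 2, 3, 1, 0, 2, 3, 4, 5, 2, 3, 1, 2, 3, 4, 0, 2, 3, 2, 0], [4, 5, 3, 4, 2, 3, 1, 3, 4, 2, 3, 2, 0], [6, 2, 3, 4, 5, 1, 3, 4, 2, 3, 1, 0, 2, 3, 4, 5, 2, 3, 1, 2, 3, 4, 0, 2, 3, 2, 0], [4, 5, 3, 4, 2, 3, 1, 3, 4, 2, 3, 0], [6, 3, 4, 5, 1, 3, 4, 2, 3, 1, 0, 2, 3, 4, 5, 2, 3, 1, 2, 3, 4, 0, 2, 3, 2, 0], [4, 5, 2, 0], [6, 3, 4,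 5, 1, 3, 4, 2, 3, 1, 0, 2, 3, 4, 5, 2, 3, 1, 2, 3, 4, 0, 2, 3, 2, 0], [4, 5, 0], [6, 2, 3, 4, 5, 1, 3, 4, 2, 3, 1, 0, 2, 3, 4, 5, 2, 3, 1, 2, 3, 4, 0, 2, 3, 2, 0], [4, 5], [6, 0, 2, 3, 4, 5, 1, 3, 4, 2, 3, 1, 0, 2, 3, 4, 5, 2, 3, 1, 2, 3, 4, 0, 2, 3, 2, 0], [4, 2, 3, 1, 0, 2, 3, 4, 5, 6, 4, 3, 1, 2, 3, 4, 5, 1, 3, 2, 0], [3, 4, 5, 3, 4, 0, 2, 3, 1, 3, 4, 2, 3, 2, 0], [6, 0, 2, 3, 4, 5, 1, 3, 4, 2, 3, 1, 0, 2, 3, 4, 5, 2, 3, 1, 3, 4, 0, 2, 3, 2, 0], [3, 4, 5, 3, 4, 2, 3, 1, 3, 4, 2, 3, 2, 0], [6, 2, 3, 4, 5, 1, 3, 4, 2, 3, 1, 0, 2, 3, 4, 5, 2, 3, 1, 3, 4, 0, 2, 3, 2, 0], [3, 4, 5, 3, 4, 2, 3, 1, 3, 4, 2, 3, 0], [6, 4, 5, 1, 3, 4, 2, 3, 1, 0, 2, 3, 4, 5,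 2, 3, 1, 2, 3, 4, 0, 2, 3, 2, 0], [6, 5, 3, 2, 0], [6, 4, 5, 1, 3, 4, 2, 3, 1, 0, 2, 3, 4, 5, 2, 3, 1, 2, 3, 4, 0, 2, 3, 2, 0], [6, 5, 3, 0], [6, 2, 3, 4, 5, 1, 3, 4, 2, 3, 1, 0, 2, 3, 4, 5, 2, 3, 1, 3, 4, 0, 2, 3, 2, 0], [6, 5, 3], [6, 0, 2, 3, 4, 5, 1, 3, 4, 2, 3, 1, 0, 2, 3, 4, 5, 2, 3, 1, 3, 4, 0, 2, 3, 2, 0], [4, 3, 1, 0, 2, 3, 4, 5, 6, 4, 3, 1, 2, 3, 4, 5, 1, 3, 2, 0], [2, 3, 4, 5, 3, 4, 0, 2, 3, 1, 3, 4, 2, 3, 2, 0], [6, 0, 2, 3, 4, 5, 1, 3, 4, 2, 3, 1, 0, 2, 3, 4, 5, 2, 3, 1, 4, 0, 2, 3, 2, 0], [2, 3, 4, 5, 3, 4, 2, 3, 1, 3, 4, 2, 3, 2, 0], [6, 3, 4, 5, 1, 3, 4, 2, 3, 1, 0, 2, 3, 4, 5, 2, 3, 1, 3, 4, 0, 2, 3, 2, 0], [2, 3, 4, 5, 3, 4, 2, 3, 1, 3,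 4, 2, 3, 0], [6, 4, 5, 1, 3, 4, 2, 3, 1, 0, 2, 3, 4, 5, 2, 3, 1, 3, 4, 0, 2, 3, 2, 0], [6, 5, 2, 3, 2, 0], [6, 4, 5, 1, 3, 4, 2, 3, 1, 0, 2, 3, 4, 5, 2, 3, 1, 3, 4, 0, 2, 3, 2, 0], [6, 5, 2, 3, 0], [6, 3, 4, 5, 1, 3, 4, 2, 3, 1, 0, 2, 3, 4, 5, 2, 3, 1, 3, 4, 0, 2, 3, 2, 0], [6, 5, 2, 3], [6, 0, 2, 3, 4, 5, 1, 3, 4, 2, 3, 1, 0, 2, 3, 4, 5, 2, 3, 1, 4, 0, 2, 3, 2, 0], [4, 2, 3, 1, 0, 2, 3, 4, 5, 6, 4, 3, 1, 2, 3, 4, 5, 3, 2, 0], [2, 3, 4, 5, 3, 4, 0, 2, 3, 1, 3, 4, 2, 3, 2, 0], [6, 0, 2, 3, 4, 5, 1, 3, 4, 2, 3, 1, 0, 2, 3, 4, 5, 2, 3, 1, 4, 0, 2, 3, 2, 0], [1, 3, 4, 5, 3, 4, 2, 3, 1, 3, 4, 2, 3, 2, 0], [6, 2, 3, 4, 5, 1, 3, 4, 2, 3, 1, 0, 2, 3, 4, 5, 2, 3,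 1, 4, 0, 2, 3, 2, 0], [1, 3, 4, 5, 3, 4, 2, 3, 1, 3, 4, 2, 3, 0], [6, 4, 5, 3, 4, 2, 3, 1, 0, 2, 3, 4, 5, 2, 3, 1, 2, 3, 4, 0, 2, 3, 2, 0], [6, 5, 1, 3, 2, 0], [6, 4, 5, 3, 4, 2, 3, 1, 0, 2, 3, 4, 5, 2, 3, 1, 2, 3, 4, 0, 2, 3, 2, 0], [6, 5, 1, 3, 0], [6, 2, 3, 4, 5, 1, 3, 4, 2, 3, 1, 0, 2, 3, 4, 5, 2, 3, 1, 4, 0, 2, 3, 2, 0], [6, 5, 1, 3], [6, 0, 2, 3, 4, 5, 1, 3, 4, 2, 3, 1, 0, 2, 3, 4, 5, 2, 3, 1, 4, 0, 2, 3, 2, 0], [4, 3, 1, 0, 2, 3, 4, 5, 6, 4, 3, 1, 2, 3, 4, 5, 3, 2, 0], [3, 4, 5, 3, 4, 0, 2, 3, 1, 3, 4, 2, 3, 2, 0], [6, 0, 2, 3, 4, 5, 1, 3, 4, 2, 3, 1, 0, 2, 3, 4, 5, 2, 3, 1, 3, 4, 0, 2, 3, 2, 0], [0, 2, 3, 4, 5, 3, 4, 2, 3, 1, 3, 4, 2, 3, 2, 0],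 [6, 3, 4, 5, 1, 3, 4, 2, 3, 1, 0, 2, 3, 4, 5, 2, 3, 1, 4, 0, 2, 3, 2, 0], [1, 2, 3, 4, 5, 3, 4, 2, 3, 1, 3, 4, 2, 3, 0], [6, 4, 5, 3, 4, 2, 3, 1, 0, 2, 3, 4, 5, 2, 3, 1, 3, 4, 0, 2, 3, 2, 0], [6, 5, 1, 2, 3, 2, 0], [6, 4, 5, 3, 4, 2, 3, 1, 0, 2, 3, 4, 5, 2, 3, 1, 3, 4, 0, 2, 3, 2, 0], [6, 5, 1, 2, 3, 0], [6, 3, 4, 5, 1, 3, 4, 2, 3, 1, 0, 2, 3, 4, 5, 2, 3, 1, 4, 0, 2, 3, 2, 0], [6, 5, 1, 2, 3], [6, 0, 2, 3, 4, 5, 1, 3, 4, 2, 3, 1, 0, 2, 3, 4, 5, 2, 3, 1, 3, 4, 0, 2, 3, 2, 0], [4, 3, 1, 0, 2, 3, 4, 5, 6, 4, 3, 1, 2, 3, 4, 5, 2, 0], [4, 5, 3, 4, 0, 2, 3, 1, 3, 4, 2, 3, 2, 0], [6, 0, 2, 3, 4, 5, 1, 3, 4, 2, 3, 1, 0, 2, 3, 4, 5, 2, 3, 1, 2, 3, 4, 0, 2, 3, 2,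 0], [0, 2, 3, 4, 5, 3, 4, 2, 3, 1, 3, 4, 2, 3, 0], [6, 4, 5, 1, 3, 4, 2, 3, 1, 0, 2, 3, 4, 5, 2, 3, 1, 4, 0, 2, 3, 2, 0], [1, 0, 2, 3, 4, 5, 3, 4, 2, 3, 1, 3, 4, 2, 3, 0], [6, 4, 5, 3, 4, 2, 3, 1, 0, 2, 3, 4, 5, 2, 3, 1, 4, 0, 2, 3, 2, 0], [6, 5, 3, 1, 2, 3, 2, 0], [6, 4, 5, 3, 4, 2, 3, 1, 0, 2, 3, 4, 5, 2, 3, 1, 4, 0, 2, 3, 2, 0], [6, 5, 3, 1, 2, 3, 0], [6, 4, 5, 1, 3, 4, 2, 3, 1, 0, 2, 3, 4, 5, 2, 3, 1, 4, 0, 2, 3, 2, 0], [6, 5, 3, 1, 2, 3], [6, 0, 2, 3, 4, 5, 1, 3, 4, 2, 3, 1, 0, 2, 3, 4, 5, 2, 3, 1, 2, 3, 4, 0, 2, 3, 2, 0], [4, 3, 1, 2, 3, 4, 5, 6, 4, 3, 1, 2, 3, 4, 5, 1, 3, 2, 0], [1, 3, 4, 5, 3, 4, 2, 3, 1, 3, 4, 2, 3, 2, 0], [6, 2, 3, 4, 5, 1, 3,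 4, 2, 3, 1, 0, 2, 3, 4, 5, 2, 3, 1, 4, 0, 2, 3, 2, 0], [0, 2, 3, 4, 5, 3, 4, 2, 3, 1, 3, 4, 2, 3, 2, 0], [6, 3, 4, 5, 1, 3, 4, 2, 3, 1, 0, 2, 3, 4, 5, 2, 3, 1, 4, 0, 2, 3, 2, 0], [0, 2, 3, 4, 5, 3, 4, 2, 3, 1, 3, 4, 2, 3, 0], [6, 4, 5, 1, 3, 4, 2, 3, 1, 0, 2, 3, 4, 5, 2, 3, 1, 4, 0, 2, 3, 2, 0], [6, 5, 0, 2, 3, 2, 0], [6, 4, 5, 1, 3, 4, 2, 3, 1, 0, 2, 3, 4, 5, 2, 3, 1, 4, 0, 2, 3, 2, 0], [6, 5, 0, 2, 3, 0], [6, 3, 4, 5, 1, 3, 4, 2, 3, 1, 0, 2, 3, 4, 5, 2, 3, 1, 4, 0, 2, 3, 2, 0], [6, 5, 0, 2, 3], [6, 2, 3, 4, 5, 1, 3, 4, 2, 3, 1, 0, 2, 3, 4, 5, 2, 3, 1, 4, 0, 2, 3, 2, 0], [4, 3, 1, 2, 3, 4, 5, 6, 4, 3, 1, 2, 3, 4, 5, 3, 2, 0], [3, 4, 5, 3, 4, 2, 3, 1, 3,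 4, 2, 3, 2, 0], [6, 2, 3, 4, 5, 1, 3, 4, 2, 3, 1, 0, 2, 3, 4, 5, 2, 3, 1, 3, 4, 0, 2, 3, 2, 0], [2, 3, 4, 5, 3, 4, 2, 3, 1, 3, 4, 2, 3, 2, 0], [6, 3, 4, 5, 1, 3, 4, 2, 3, 1, 0, 2, 3, 4, 5, 2, 3, 1, 3, 4, 0, 2, 3, 2, 0], [1, 0, 2, 3, 4, 5, 3, 4, 2, 3, 1, 3, 4, 2, 3, 0], [6, 4, 5, 3, 4, 2, 3, 1, 0, 2, 3, 4, 5, 2, 3, 1, 4, 0, 2, 3, 2, 0], [6, 5, 1, 0, 2, 3, 2, 0], [6, 4, 5, 3, 4, 2, 3, 1, 0, 2, 3, 4, 5, 2, 3, 1, 4, 0, 2, 3, 2, 0], [6, 5, 1, 0, 2, 3, 0], [6, 3, 4, 5, 1, 3, 4, 2, 3, 1, 0, 2, 3, 4, 5, 2, 3, 1, 3, 4, 0, 2, 3, 2, 0], [6, 5, 1, 0, 2, 3], [6, 2, 3, 4, 5, 1, 3, 4, 2, 3, 1, 0, 2, 3, 4, 5, 2, 3, 1, 3, 4, 0, 2, 3, 2, 0], [4, 3, 1, 2, 3, 4, 5, 6, 4, 3,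 1, 2, 3, 4, 5, 2, 0], [4, 5, 3, 4, 2, 3, 1, 3, 4, 2, 3, 2, 0], [6, 2, 3, 4, 5, 1, 3, 4, 2, 3, 1, 0, 2, 3, 4, 5, 2, 3, 1, 2, 3, 4, 0, 2, 3, 2, 0], [2, 3, 4, 5, 3, 4, 2, 3, 1, 3, 4, 2, 3, 0], [6, 4, 5, 1, 3, 4, 2, 3, 1, 0, 2, 3, 4, 5, 2, 3, 1, 3, 4, 0, 2, 3, 2, 0], [1, 2, 3, 4, 5, 3, 4, 2, 3, 1, 3, 4, 2, 3, 0], [6, 4, 5, 3, 4, 2, 3, 1, 0, 2, 3, 4, 5, 2, 3, 1, 3, 4, 0, 2, 3, 2, 0], [6, 5, 3, 1, 0, 2, 3, 2, 0], [6, 4, 5, 3, 4, 2, 3, 1, 0, 2, 3, 4, 5, 2, 3, 1, 3, 4, 0, 2, 3, 2, 0], [6, 5, 3, 1, 0, 2, 3, 0], [6, 4, 5, 1, 3, 4, 2, 3, 1, 0, 2, 3, 4, 5, 2, 3, 1, 3, 4, 0, 2, 3, 2, 0], [6, 5, 3, 1, 0, 2, 3], [6, 2, 3, 4, 5, 1, 3, 4, 2, 3, 1, 0, 2, 3, 4, 5, 2, 3, 1,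 2, 3, 4, 0, 2, 3, 2, 0], [4, 3, 1, 2, 3, 4, 5, 6, 4, 3, 1, 2, 3, 4, 5, 0], [4, 5, 3, 4, 2, 3, 1, 3, 4, 2, 3, 0], [6, 3, 4, 5, 1, 3, 4, 2, 3, 1, 0, 2, 3, 4, 5, 2, 3, 1, 2, 3, 4, 0, 2, 3, 2, 0], [3, 4, 5, 3, 4, 2, 3, 1, 3, 4, 2, 3, 0], [6, 4, 5, 1, 3, 4, 2, 3, 1, 0, 2, 3, 4, 5, 2, 3, 1, 2, 3, 4, 0, 2, 3, 2, 0], [1, 3, 4, 5, 3, 4, 2, 3, 1, 3, 4, 2, 3, 0], [6, 4, 5, 3, 4, 2, 3, 1, 0, 2, 3, 4, 5, 2, 3, 1, 2, 3, 4, 0, 2, 3, 2, 0], [6, 5, 2, 3, 1, 0, 2, 3, 2, 0], [6, 4, 5, 3, 4, 2, 3, 1, 0, 2, 3, 4, 5, 2, 3, 1, 2, 3, 4, 0, 2, 3, 2, 0], [6, 5, 2, 3, 1, 0, 2, 3, 0], [6, 4, 5, 1, 3, 4, 2, 3, 1, 0, 2, 3, 4, 5, 2, 3, 1, 2, 3, 4, 0, 2, 3, 2, 0], [6, 5, 2, 3, 1, 0, 2,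 3], [6, 3, 4, 5, 1, 3, 4, 2, 3, 1, 0, 2, 3, 4, 5, 2, 3, 1, 2, 3, 4, 0, 2, 3, 2, 0], [6, 5, 1, 3, 2, 0], [6, 5, 1, 3, 2, 0], [6, 4, 5, 3, 4, 2, 3, 1, 0, 2, 3, 4, 5, 2, 3, 1, 2, 3, 4, 0, 2, 3, 2, 0], [6, 5, 1, 2, 3, 2, 0], [6, 4, 5, 3, 4, 2, 3, 1, 0, 2, 3, 4, 5, 2, 3, 1, 3, 4, 0, 2, 3, 2, 0], [6, 5, 3, 1, 2, 3, 2, 0], [6, 4, 5, 3, 4, 2, 3, 1, 0, 2, 3, 4, 5, 2, 3, 1, 4, 0, 2, 3, 2, 0], [6, 5, 1, 0, 2, 3, 2, 0], [6, 4, 5, 3, 4, 2, 3, 1, 0, 2, 3, 4, 5, 2, 3, 1, 4, 0, 2, 3, 2, 0], [6, 5, 3, 1, 0, 2, 3, 2, 0], [6, 4, 5, 3, 4, 2, 3, 1, 0, 2, 3, 4, 5, 2, 3, 1, 3, 4, 0, 2, 3, 2, 0], [6, 5, 2, 3, 1, 0, 2, 3, 2, 0], [6, 4, 5, 3, 4, 2, 3, 1, 0, 2, 3, 4, 5, 2, 3, 1,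 2, 3, 4, 0, 2, 3, 2, 0], [6, 5, 3, 2, 0], [6, 5, 3, 2, 0], [6, 4, 5, 1, 3, 4, 2, 3, 1, 0, 2, 3, 4, 5, 2, 3, 1, 2, 3, 4, 0, 2, 3, 2, 0], [6, 5, 2, 3, 2, 0], [6, 4, 5, 1, 3, 4, 2, 3, 1, 0, 2, 3, 4, 5, 2, 3, 1, 3, 4, 0, 2, 3, 2, 0], [6, 5, 3, 1, 2, 3, 0], [6, 4, 5, 1, 3, 4, 2, 3, 1, 0, 2, 3, 4, 5, 2, 3, 1, 4, 0, 2, 3, 2, 0], [6, 5, 0, 2, 3, 2, 0], [6, 4, 5, 1, 3, 4, 2, 3, 1, 0, 2, 3, 4, 5, 2, 3, 1, 4, 0, 2, 3, 2, 0], [6, 5, 3, 1, 0, 2, 3, 0], [6, 4, 5, 1, 3, 4, 2, 3, 1, 0, 2, 3, 4, 5, 2, 3, 1, 3, 4, 0, 2, 3, 2, 0], [6, 5, 2, 3, 1, 0, 2, 3, 0], [6, 4, 5, 1, 3, 4, 2, 3, 1, 0, 2, 3, 4, 5, 2, 3, 1, 2, 3, 4, 0, 2, 3, 2, 0], [6, 5, 2, 0], [4, 5, 2, 0], [6, 3, 4,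 5, 1, 3, 4, 2, 3, 1, 0, 2, 3, 4, 5, 2, 3, 1, 2, 3, 4, 0, 2, 3, 2, 0], [6, 5, 2, 3, 0], [6, 3, 4, 5, 1, 3, 4, 2, 3, 1, 0, 2, 3, 4, 5, 2, 3, 1, 3, 4, 0, 2, 3, 2, 0], [6, 5, 1, 2, 3, 0], [6, 3, 4, 5, 1, 3, 4, 2, 3, 1, 0, 2, 3, 4, 5, 2, 3, 1, 4, 0, 2, 3, 2, 0], [6, 5, 0, 2, 3, 0], [6, 3, 4, 5, 1, 3, 4, 2, 3, 1, 0, 2, 3, 4, 5, 2, 3, 1, 4, 0, 2, 3, 2, 0], [6, 5, 1, 0, 2, 3, 0], [6, 3, 4, 5, 1, 3, 4, 2, 3, 1, 0, 2, 3, 4, 5, 2, 3, 1, 3, 4, 0, 2, 3, 2, 0], [6, 5, 2, 3, 1, 0, 2, 3], [6, 3, 4, 5, 1, 3, 4, 2, 3, 1, 0, 2, 3, 4, 5, 2, 3, 1, 2, 3, 4, 0, 2, 3, 2, 0], [6, 5, 0], [4, 5, 0], [6, 2, 3, 4, 5, 1, 3, 4, 2, 3, 1, 0, 2, 3, 4, 5, 2, 3, 1, 2, 3, 4, 0, 2, 3, 2, 0],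 [6, 5, 3, 0], [6, 2, 3, 4, 5, 1, 3, 4, 2, 3, 1, 0, 2, 3, 4, 5, 2, 3, 1, 3, 4, 0, 2, 3, 2, 0], [6, 5, 1, 3, 0], [6, 2, 3, 4, 5, 1, 3, 4, 2, 3, 1, 0, 2, 3, 4, 5, 2, 3, 1, 4, 0, 2, 3, 2, 0], [6, 5, 0, 2, 3], [6, 2, 3, 4, 5, 1, 3, 4, 2, 3, 1, 0, 2, 3, 4, 5, 2, 3, 1, 4, 0, 2, 3, 2, 0], [6, 5, 1, 0, 2, 3], [6, 2, 3, 4, 5, 1, 3, 4, 2, 3, 1, 0, 2, 3, 4, 5, 2, 3, 1, 3, 4, 0, 2, 3, 2, 0], [6, 5, 3, 1, 0, 2, 3], [6, 2, 3, 4, 5, 1, 3, 4, 2, 3, 1, 0, 2, 3, 4, 5, 2, 3, 1, 2, 3, 4, 0, 2, 3, 2, 0], [6, 5], [4, 5], [6, 0, 2, 3, 4, 5, 1, 3, 4, 2, 3, 1, 0, 2, 3, 4, 5, 2, 3, 1, 2, 3, 4, 0, 2, 3, 2, 0], [6, 5, 3], [6, 0, 2, 3, 4, 5, 1, 3, 4, 2, 3, 1, 0, 2, 3, 4, 5, 2, 3, 1,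 3, 4, 0, 2, 3, 2, 0], [6, 5, 2, 3], [6, 0, 2, 3, 4, 5, 1, 3, 4, 2, 3, 1, 0, 2, 3, 4, 5, 2, 3, 1, 4, 0, 2, 3, 2, 0], [6, 5, 1, 3], [6, 0, 2, 3, 4, 5, 1, 3, 4, 2, 3, 1, 0, 2, 3, 4, 5, 2, 3, 1, 4, 0, 2, 3, 2, 0], [6, 5, 1, 2, 3], [6, 0, 2, 3, 4, 5, 1, 3, 4, 2, 3, 1, 0, 2, 3, 4, 5, 2, 3, 1, 3, 4, 0, 2, 3, 2, 0], [6, 5, 3, 1, 2, 3], [6, 0, 2, 3, 4, 5, 1, 3, 4, 2, 3, 1, 0, 2, 3, 4, 5, 2, 3, 1, 2, 3, 4, 0, 2, 3, 2, 0]] = true := by decide +kernel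

theorem set6_2 : setOk goodE7 swap P6 Q6 L7 [64, 90] [[6, 5, 0, 2, 3, 1, 4, 3, 2, 0], [6, 5, 3, 4, 0, 2, 3, 1, 3, 4, 2, 3, 2, 0], [4, 5, 3, 4, 0, 2, 3, 1, 4, 0, 2, 3, 2, 0, 7, 5, 6, 4, 5, 3, 4, 2, 3], [4, 5, 3, 4, 0, 2, 3, 1, 4, 0, 2, 3, 2, 0, 7, 5, 6, 4, 5, 3, 4, 2, 3], [0, 2, 3, 4, 5, 1, 3, 4, 2, 3, 1, 0, 2, 3, 4, 5, 3, 1, 2, 3, 4, 0, 2, 3, 2, 0], [4, 5, 3, 4, 0, 2, 3, 1, 4, 0, 2, 3, 2, 0, 7, 5, 6, 4, 5, 3, 4, 2, 3], [6, 5, 4, 0, 2, 3, 1, 3, 4, 2, 3, 2, 0], [6, 5, 4, 0, 2, 3, 1, 4, 0, 2, 3, 2, 0, 7, 5, 6, 4, 5, 3, 4, 2, 3], [6, 5, 4, 0, 2, 3, 1, 4, 0, 2, 3, 2, 0, 7, 5, 6, 4, 5, 3, 4, 2, 3], [0, 2, 3, 4, 5, 1, 3, 4, 2, 3, 1, 0, 2, 3, 4, 5, 1, 2, 3, 4,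 0, 2, 3, 2, 0], [6, 5, 4, 0, 2, 3, 1, 4, 0, 2, 3, 2, 0, 7, 5, 6, 4, 5, 3, 4, 2, 3], [6, 5, 4, 0, 2, 3, 1, 3, 4, 0, 2, 3, 2, 0], [6, 5, 4, 0, 2, 3, 1, 4, 2, 3, 2, 0, 7, 5, 6, 4, 5, 3, 4, 2, 3], [6, 5, 4, 0, 2, 3, 1, 4, 2, 3, 2, 0, 7, 5, 6, 4, 5, 3, 4, 2, 3], [0, 2, 3, 4, 5, 1, 3, 4, 2, 3, 1, 0, 2, 3, 4, 5, 2, 3, 4, 0, 2, 3, 2, 0], [6, 5, 4, 0, 2, 3, 1, 4, 2, 3, 2, 0, 7, 5, 6, 4, 5, 3, 4, 2, 3], [6, 5, 4, 0, 2, 3, 1, 4, 2, 3, 2, 0], [6, 5, 4, 0, 2, 3, 1, 4, 2, 3, 2, 0, 7, 5, 6, 4, 5, 3, 4, 2, 3], [6, 5, 4, 0, 2, 3, 1, 4, 2, 3, 2, 0, 7, 5, 6, 4, 5, 3, 4, 2, 3], [0, 2, 3, 4, 5, 1, 3, 4, 2, 3, 1, 0, 2, 3, 4, 5, 2, 3, 1, 0, 2, 3, 2, 0], [6, 5, 4, 0, 2, 3, 1,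 4, 2, 3, 2, 0, 7, 5, 6, 4, 5, 3, 4, 2, 3], [6, 5, 4, 0, 2, 3, 1, 4, 0, 2, 3, 2, 0], [6, 5, 4, 0, 2, 3, 1, 4, 0, 2, 3, 2, 0, 7, 5, 6, 4, 5, 3, 4, 2, 3], [6, 5, 4, 0, 2, 3, 1, 4, 0, 2, 3, 2, 0, 7, 5, 6, 4, 5, 3, 4, 2, 3], [0, 2, 3, 4, 5, 1, 3, 4, 2, 3, 1, 0, 2, 3, 4, 5, 2, 3, 4, 0, 2, 3, 0], [6, 5, 4, 0, 2, 3, 1, 4, 0, 2, 3, 2, 0, 7, 5, 6, 4, 5, 3, 4, 2, 3], [6, 5, 3, 4, 0, 2, 3, 1, 4, 0, 2, 3, 2, 0], [4, 5, 3, 4, 0, 2, 3, 1, 4, 0, 2, 3, 2, 0, 7, 5, 6, 4, 5, 3, 4, 2, 3], [4, 5, 3, 4, 0, 2, 3, 1, 4, 0, 2, 3, 2, 0, 7, 5, 6, 4, 5, 3, 4, 2, 3], [0, 2, 3, 4, 5, 1, 3, 4, 2, 3, 1, 0, 2, 3, 4, 5, 2, 3, 4, 0, 2, 3], [4, 5, 3, 4, 0, 2, 3, 1, 4, 0, 2, 3, 2, 0, 7, 5,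 6, 4, 5, 3, 4, 2, 3], [6, 5], [0, 2, 3, 4, 5, 1, 3, 4, 2, 3, 1, 0, 2, 3, 4, 5, 3, 1, 2, 3, 4, 0, 2, 3, 2, 0], [4, 5, 3, 4, 0, 2, 3, 1, 4, 0, 2, 3, 2, 0, 7, 5, 6, 4, 5, 3, 4, 2, 3], [0, 2, 3, 4, 5, 1, 3, 4, 2, 3, 1, 0, 2, 3, 4, 5, 1, 2, 3, 4, 0, 2, 3, 2, 0], [6, 5, 4, 0, 2, 3, 1, 4, 0, 2, 3, 2, 0, 7, 5, 6, 4, 5, 3, 4, 2, 3], [0, 2, 3, 4, 5, 1, 3, 4, 2, 3, 1, 0, 2, 3, 4, 5, 2, 3, 4, 0, 2, 3, 2, 0], [6, 5, 4, 0, 2, 3, 1, 4, 2, 3, 2, 0, 7, 5, 6, 4, 5, 3, 4, 2, 3], [0, 2, 3, 4, 5, 1, 3, 4, 2, 3, 1, 0, 2, 3, 4, 5, 2, 3, 1, 0, 2, 3, 2, 0], [6, 5, 4, 0, 2, 3, 1, 4, 2, 3, 2, 0, 7, 5, 6, 4, 5, 3, 4, 2, 3], [0, 2, 3, 4, 5, 1, 3, 4, 2, 3, 1, 0, 2, 3, 4, 5, 2, 3, 4,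 0, 2, 3, 0], [6, 5, 4, 0, 2, 3, 1, 4, 0, 2, 3, 2, 0, 7, 5, 6, 4, 5, 3, 4, 2, 3], [0, 2, 3, 4, 5, 1, 3, 4, 2, 3, 1, 0, 2, 3, 4, 5, 2, 3, 4, 0, 2, 3], [4, 5, 3, 4, 0, 2, 3, 1, 4, 0, 2, 3, 2, 0, 7, 5, 6, 4, 5, 3, 4, 2, 3]] = true := by decide +kernel

theorem set6_3 : setOk goodE7 swap P6 Q6 L7 [64, 78, 90] [[6, 5, 0, 2, 3, 1, 4, 3, 2, 0], [6, 5, 0, 2, 3, 1, 4, 3, 2, 0], [4, 5, 3, 4, 0, 2, 3, 1, 4, 0, 2, 3, 2, 0, 7, 3, 1, 0, 2, 3, 4, 5, 6, 3, 1, 2, 3, 4, 5, 3, 1, 2, 3, 4, 0, 2, 3, 2, 0], [4, 5, 3, 4, 0, 2, 3, 1, 4, 0, 2, 3, 2, 0, 7, 5, 4, 3, 1, 2, 3, 4, 5, 3, 1, 2, 3, 7, 3, 1, 0, 2, 3, 4, 5, 6, 3, 1, 2, 3, 4, 5, 3, 1, 2, 3, 4, 0, 2, 3, 2, 0], [4, 5, 3, 1,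 2, 3, 7, 3, 1, 0, 2, 3, 4, 5, 6, 3, 1, 2, 3, 4, 5, 3, 1, 2, 3, 4, 0, 2, 3, 2, 0], [4, 5, 3, 4, 0, 2, 3, 1, 4, 0, 2, 3, 2, 0, 7, 5, 4, 3, 1, 2, 3, 4, 5, 3, 1, 2, 3, 7, 3, 1, 0, 2, 3, 4, 5, 6, 3, 1, 2, 3, 4, 5, 3, 1, 2, 3, 4, 0, 2, 3, 2, 0], [6, 4, 3, 1, 2, 3, 4, 5, 0, 2, 3, 1, 2, 3, 4, 0, 2, 3, 2, 0], [4, 5, 3, 4, 0, 2, 3, 1, 4, 0, 2, 3, 2, 0, 7, 3, 1, 0, 2, 3, 4, 5, 6, 3, 1, 2, 3, 4, 5, 3, 1, 2, 3, 4, 0, 2, 3, 2, 0], [4, 5, 3, 4, 0, 2, 3, 1, 4, 0, 2, 3, 2, 0, 7, 5, 4, 3, 1, 2, 3, 4, 5, 3, 1, 2, 3, 7, 3, 1, 0, 2, 3, 4, 5, 6, 3, 1, 2, 3, 4, 5, 3, 1, 2, 3, 4, 0, 2, 3, 2, 0], [6, 5, 3, 1, 2, 3, 7, 5, 6, 4, 5, 3, 4, 2, 3], [4, 5, 3, 4, 0, 2, 3, 1, 4, 0, 2, 3,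 2, 0, 7, 5, 4, 3, 1, 2, 3, 4, 5, 3, 1, 2, 3, 7, 3, 1, 0, 2, 3, 4, 5, 6, 3, 1, 2, 3, 4, 5, 3, 1, 2, 3, 4, 0, 2, 3, 2, 0], [0, 2, 3, 4, 5, 6, 3, 4, 2, 3, 1, 0, 2, 3, 4, 5, 3, 1, 2, 3, 4, 0, 2, 3, 2, 0], [4, 5, 3, 1, 2, 3, 7, 3, 1, 0, 2, 3, 4, 5, 6, 3, 1, 2, 3, 4, 5, 3, 1, 2, 3, 4, 0, 2, 3, 2, 0], [4, 5, 3, 4, 0, 2, 3, 1, 4, 0, 2, 3, 2, 0, 7, 5, 4, 3, 1, 2, 3, 4, 5, 3, 1, 2, 3, 7, 3, 1, 0, 2, 3, 4, 5, 6, 3, 1, 2, 3, 4, 5, 3, 1, 2, 3, 4, 0, 2, 3, 2, 0], [6, 5, 3, 1, 2, 3, 7, 5, 6, 4, 5, 3, 4, 2, 3], [4, 5, 3, 4, 0, 2, 3, 1, 4, 0, 2, 3, 2, 0, 7, 5, 4, 3, 1, 2, 3, 4, 5, 3, 1, 2, 3, 7, 3, 1, 0, 2, 3, 4, 5, 6, 3, 1, 2, 3, 4, 5, 3, 1, 2, 3, 4, 0, 2, 3, 2, 0]] =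 true := by decide +kernel

theorem set6_4 : setOk goodE7 swap P6 Q6 L7 [78, 87, 104, 112] [[6, 3, 1, 0, 2, 3, 4, 5, 4, 0, 2, 3, 2, 0, 7, 5, 6, 4, 5, 3, 4, 2, 3], [6, 3, 1, 0, 2, 3, 4, 5, 4, 0, 2, 3, 2, 0, 7, 5, 6, 4, 5, 3, 4, 2, 3], [6, 3, 1, 0, 2, 3, 4, 5, 4, 0, 2, 3, 2, 0, 7, 5, 4, 3, 1, 2, 3, 4, 5, 3, 1, 2, 3, 7, 3, 1, 0, 2, 3, 4, 5, 6, 3, 1, 2, 3, 4, 5, 3, 1, 2, 3, 4, 0, 2, 3, 2, 0], [6, 3, 1, 0, 2, 3, 4, 5, 4, 0, 2, 3, 2, 0, 7, 5, 6, 4, 5, 0, 2, 3, 1, 4, 3, 2, 0, 7, 5, 4, 3, 1, 2, 3, 4, 5, 3, 1, 2, 3, 7, 3, 1, 0, 2, 3, 4, 5, 6, 3, 1, 2, 3, 4, 5, 3, 1, 2, 3, 4, 0, 2, 3, 2, 0], [6, 3, 1, 0, 2, 3, 4, 5, 4, 0, 2, 3, 2, 0, 7, 5, 6, 4, 5, 3, 1, 2, 3, 7,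 3, 1, 0, 2, 3, 4, 5, 6, 1, 0, 2, 3, 4, 5, 3, 1, 2, 3, 4, 0, 2, 3, 2, 0], [6, 3, 1, 0, 2, 3, 4, 5, 4, 0, 2, 3, 2, 0, 7, 5, 6, 4, 5, 0, 2, 3, 1, 4, 3, 2, 0, 7, 5, 4, 3, 1, 2, 3, 4, 5, 3, 1, 2, 3, 7, 3, 1, 0, 2, 3, 4, 5, 6, 3, 1, 2, 3, 4, 5, 3, 1, 2, 3, 4, 0, 2, 3, 2, 0], [6, 3, 1, 0, 2, 3, 4, 5, 4, 0, 2, 3, 2, 0, 7, 3, 1, 0, 2, 3, 4, 5, 6, 3, 1, 2, 3, 4, 5, 3, 1, 2, 3, 4, 0, 2, 3, 2, 0], [6, 3, 1, 0, 2, 3, 4, 5, 4, 0, 2, 3, 2, 0, 7, 5, 4, 3, 1, 2, 3, 4, 5, 3, 1, 2, 3, 7, 3, 1, 0, 2, 3, 4, 5, 6, 3, 1, 2, 3, 4, 5, 3, 1, 2, 3, 4, 0, 2, 3, 2, 0], [6, 3, 1, 0, 2, 3, 4, 5, 4, 0, 2, 3, 2, 0, 7, 5, 6, 4, 5, 0, 2, 3, 1, 4, 3, 2, 0, 7, 5, 4, 3, 1, 2, 3, 4, 5, 3, 1,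 2, 3, 7, 3, 1, 0, 2, 3, 4, 5, 6, 3, 1, 2, 3, 4, 5, 3, 1, 2, 3, 4, 0, 2, 3, 2, 0], [6, 3, 1, 0, 2, 3, 4, 5, 4, 0, 2, 3, 2, 0, 7, 5, 6, 4, 5, 0, 2, 3, 1, 4, 3, 2, 0, 7, 5, 6, 4, 5, 3, 4, 2, 3], [6, 3, 1, 0, 2, 3, 4, 5, 4, 0, 2, 3, 2, 0, 7, 5, 6, 4, 5, 0, 2, 3, 1, 4, 3, 2, 0, 7, 5, 4, 3, 1, 2, 3, 4, 5, 3, 1, 2, 3, 7, 3, 1, 0, 2, 3, 4, 5, 6, 3, 1, 2, 3, 4, 5, 3, 1, 2, 3, 4, 0, 2, 3, 2, 0], [6, 3, 1, 0, 2, 3, 4, 5, 4, 0, 2, 3, 2, 0, 7, 3, 1, 0, 2, 3, 4, 5, 6, 1, 0, 2, 3, 4, 5, 3, 1, 2, 3, 4, 0, 2, 3, 2, 0], [6, 3, 1, 0, 2, 3, 4, 5, 4, 0, 2, 3, 2, 0, 7, 5, 6, 4, 5, 3, 1, 2, 3, 7, 3, 1, 0, 2, 3, 4, 5, 6, 1, 0, 2, 3, 4, 5, 3, 1, 2, 3, 4, 0, 2, 3, 2, 0], [6, 3,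 1, 0, 2, 3, 4, 5, 4, 0, 2, 3, 2, 0, 7, 5, 6, 4, 5, 0, 2, 3, 1, 4, 3, 2, 0, 7, 5, 4, 3, 1, 2, 3, 4, 5, 3, 1, 2, 3, 7, 3, 1, 0, 2, 3, 4, 5, 6, 3, 1, 2, 3, 4, 5, 3, 1, 2, 3, 4, 0, 2, 3, 2, 0], [6, 3, 1, 0, 2, 3, 4, 5, 4, 0, 2, 3, 2, 0, 7, 5, 6, 4, 5, 0, 2, 3, 1, 4, 3, 2, 0, 7, 5, 6, 4, 5, 3, 4, 2, 3], [6, 3, 1, 0, 2, 3, 4, 5, 4, 0, 2, 3, 2, 0, 7, 5, 6, 4, 5, 0, 2, 3, 1, 4, 3, 2, 0, 7, 5, 4, 3, 1, 2, 3, 4, 5, 3, 1, 2, 3, 7, 3, 1, 0, 2, 3, 4, 5, 6, 3, 1, 2, 3, 4, 5, 3, 1, 2, 3, 4, 0, 2, 3, 2, 0]] = true := by decide +kernel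

variable (F : Type*) [Field F] [Fintype F] [CharP F 2]

theorem red0 : Reduces F goodE7 P0 L0 := reduces_nil _ List.mem_cons_self

theorem red1 : Reduces F goodE7 P1 L1 :=
  reduces_step (certs := [[[], []]]) goodE7 swap_ok rad0 rfl
    (by simp [L0, set0_0]) (red0 F)

theorem red2 : Reduces F goodE7 P2 L2 :=
  reduces_step (certs := [[[], [], [0]],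
  [[2, 0]]]) goodE7 swap_ok rad1 rfl
    (by simp [L1, set1_0, set1_1]) (red1 F)

theorem red3 : Reduces F goodE7 P3 L3 :=
  reduces_step (certs := [[[], [], [2], [0, 2]],
  [[3, 2], []]]) goodE7 swap_ok rad2 rfl
    (by simp [L2, set2_0, set2_1]) (red2 F)

theorem red4 : Reduces F goodE7 P4 L4 :=
  reduces_step (certs := [[[], [], [3], [2, 3], [0, 2, 3]],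
  [[4, 3], [], [0]],
  [[4, 3, 2, 0]]]) goodE7 swap_ok rad3 rfl
    (by simp [L3, set3_0, set3_1, set3_2]) (red3 F)

theorem red5 : Reduces F goodE7 P5 L5 :=
  reduces_step (certs := [[[], [], [], [0], [2, 0], [3], [3], [3, 0], [3, 2, 0], [4, 3], [2, 3], [4, 3, 0], [4, 3, 2, 0], [2, 3], [2, 3], [2, 3, 0], [2, 3, 2, 0], [4, 2, 3], [3], [0, 2, 3, 0], [4, 2, 3, 2, 0], [3, 4, 2, 3], [], [0, 2, 3, 2, 0], [4, 0, 2, 3, 2, 0], [0, 2, 3], [4, 3, 0], [0, 2, 3, 0], [0, 2, 3, 2, 0], [4, 0, 2, 3], [3, 0], [2, 3, 0], [4, 0, 2, 3, 2, 0], [3, 4, 0, 2, 3], [0], [2, 3, 2, 0], [4, 2, 3, 2, 0], [2, 3, 4, 0, 2, 3], [2, 0], [3, 2, 0], [4, 3, 2, 0]],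
  [[3, 1, 4, 3], [], [], [0], [2, 0], [0, 2, 3, 1, 4, 3, 2, 0], [], [2, 3, 1, 4, 3, 2, 0], [0], [3, 1, 4, 3, 2, 0], [2, 0]],
  [[1, 3], [1, 3], [], [1, 4, 2, 3], []]]) goodE7 swap_ok rad4 rfl
    (by simp [L4, set4_0, set4_1, set4_2]) (red4 F)

theorem red6 : Reduces F goodE7 P6 L6 :=
  reduces_step (certs := [[[], [], [], [0], [2, 0], [3, 2, 0], [1, 3, 2, 0], [4], [4], [4, 0], [4, 2, 0], [4, 3, 2, 0], [1, 4, 3, 2, 0], [3, 4], [3, 4], [3, 4, 0], [3, 4, 2, 0], [3, 4, 3, 2, 0], [3, 1, 4, 3, 2, 0], [2, 3, 4], [2, 3, 4], [2, 3, 4, 0], [2, 3, 4, 2, 0], [2, 3, 4, 3, 2, 0], [2, 3, 1, 4, 3, 2, 0], [1, 3, 4], [2, 3, 4], [1, 3, 4, 0], [1, 3, 4, 2, 0], [1, 3, 4, 3,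 2, 0], [3, 1, 3, 4, 3, 2, 0], [1, 2, 3, 4], [3, 4], [0, 2, 3, 4, 0], [1, 2, 3, 4, 2, 0], [1, 2, 3, 4, 3, 2, 0], [2, 3, 1, 3, 4, 3, 2, 0], [3, 1, 2, 3, 4], [4], [0, 2, 3, 4, 2, 0], [1, 0, 2, 3, 4, 2, 0], [3, 1, 2, 3, 4, 3, 2, 0], [2, 3, 1, 2, 3, 4, 3, 2, 0], [4, 3, 1, 2, 3, 4], [], [0, 2, 3, 4, 3, 2, 0], [1, 0, 2, 3, 4, 3, 2, 0], [3, 1, 0, 2, 3, 4, 3, 2, 0], [2, 3, 1, 0, 2, 3, 4, 3, 2, 0], [0, 2, 3, 4], [1, 3, 4, 0], [0, 2, 3, 4, 0], [0, 2, 3, 4, 2, 0], [0, 2, 3, 4, 3, 2, 0], [0, 2, 3, 1, 4, 3, 2, 0], [1, 0, 2, 3, 4], [3, 4, 0], [2, 3, 4, 0], [1, 0, 2, 3, 4, 2, 0], [1, 0, 2, 3, 4, 3, 2, 0], [0, 2, 3, 1, 3, 4, 3, 2, 0], [3, 1, 0, 2, 3, 4], [4, 0], [2, 3,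 4, 2, 0], [1, 2, 3, 4, 2, 0], [3, 1, 0, 2, 3, 4, 3, 2, 0], [0, 2, 3, 1, 2, 3, 4, 3, 2, 0], [4, 3, 1, 0, 2, 3, 4], [0], [2, 3, 4, 3, 2, 0], [1, 2, 3, 4, 3, 2, 0], [3, 1, 2, 3, 4, 3, 2, 0], [0, 2, 3, 1, 0, 2, 3, 4, 3, 2, 0], [2, 3, 1, 0, 2, 3, 4], [4, 2, 0], [3, 4, 2, 0], [1, 3, 4, 2, 0], [2, 3, 1, 0, 2, 3, 4, 3, 2, 0], [0, 2, 3, 1, 0, 2, 3, 4, 3, 2, 0], [4, 2, 3, 1, 0, 2, 3, 4], [2, 0], [3, 4, 3, 2, 0], [1, 3, 4, 3, 2, 0], [2, 3, 1, 2, 3, 4, 3, 2, 0], [0, 2, 3, 1, 2, 3, 4, 3, 2, 0], [3, 4, 2, 3, 1, 0, 2, 3, 4], [3, 2, 0], [4, 3, 2, 0], [3, 1, 3, 4, 3, 2, 0], [2, 3, 1, 3, 4, 3, 2, 0], [0, 2, 3, 1, 3, 4, 3, 2, 0], [1, 3, 4, 2, 3, 1, 0, 2, 3, 4], [1, 3, 2,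 0], [1, 4, 3, 2, 0], [3, 1, 4, 3, 2, 0], [2, 3, 1, 4, 3, 2, 0], [0, 2, 3, 1, 4, 3, 2, 0]],
  [[3, 4, 5, 1, 3, 4], [3, 4, 2, 3, 1, 0, 2, 3, 4, 5, 2, 3, 1, 0, 2, 3, 4, 3, 2, 0], [], [0], [2, 0], [3, 4, 2, 3, 1, 0, 2, 3, 4, 5, 0, 2, 3, 1, 0, 2, 3, 4, 3, 2, 0], [4], [4, 0], [4, 2, 0], [0, 2, 3, 4, 5, 1, 3, 4, 3, 2, 0], [4], [3, 4, 2, 3, 1, 3, 4, 2, 3, 0], [3, 4, 2, 3, 1, 3, 4, 2, 3, 2, 0], [0, 2, 3, 4, 5, 3, 1, 3, 4, 3, 2, 0], [], [2, 3, 4, 5, 1, 3, 4, 2, 3, 2, 0], [3, 4, 5, 1, 3, 4, 2, 3, 2, 0], [2, 3, 4, 5, 1, 3, 4, 3, 2, 0], [4, 0], [2, 3, 4, 5, 1, 3, 4, 2, 3, 2, 0], [3, 4, 5, 3, 1, 3, 4, 0, 2, 3, 2, 0], [2, 3, 4, 5, 3, 1, 3, 4, 3, 2, 0], [0], [3, 4, 2,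 3, 1, 3, 4, 2, 3, 0], [3, 4, 5, 1, 3, 4, 0, 2, 3, 2, 0], [3, 4, 5, 1, 3, 4, 3, 2, 0], [4, 2, 0], [3, 4, 5, 1, 3, 4, 2, 3, 2, 0], [3, 4, 5, 1, 3, 4, 0, 2, 3, 2, 0], [3, 4, 5, 3, 1, 3, 4, 3, 2, 0], [2, 0], [3, 4, 2, 3, 1, 3, 4, 2, 3, 2, 0], [3, 4, 5, 3, 1, 3, 4, 0, 2, 3, 2, 0]],
  [[0, 2, 3, 4, 5, 1, 3, 4, 2, 0], [4, 5, 3, 4, 2, 3, 1, 3, 4, 2, 3, 0], [], [5, 3, 4, 2, 3, 1, 3, 4, 2, 3, 0], [2], [3, 4, 5, 4, 3, 1, 3, 4, 2, 3, 0], [2], [5, 3, 4, 2, 3, 1, 3, 4, 2, 3, 2, 0], []],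
  [[5, 3, 4, 2, 3, 1, 0, 2, 3, 4, 5, 0, 2, 3, 1, 0, 2, 3, 4, 3, 2, 0]],
  [[5, 4]],
  [[5, 4, 0, 2, 3, 1, 4, 2, 3, 0, 2, 0]]]) goodE7 swap_ok rad5 rfl
    (by simp [L5, set5_0, set5_1, set5_2, set5_3, set5_4, set5_5]) (red5 F)

theorem red7 : Reduces F goodE7 P7 L7 :=
  reduces_step (certs := [[[], [5, 4, 3, 1, 2, 3, 4, 5, 0, 2, 3, 1, 4, 3, 2, 0], [0, 2, 3, 1, 4, 3, 2, 0], [], [2, 3, 1, 4, 3, 2, 0], [0], [3, 1, 4, 3, 2, 0], [2, 0], [1, 4, 3, 2, 0], [3, 2, 0], [1, 3, 2, 0], [4, 3, 2, 0], [4, 3, 2, 0], [4, 3, 2, 0], [3, 2, 0], [3, 2, 0], [2, 0], [2, 0], [0], [0], [], [], [4, 3, 1, 2, 3, 4, 5, 0, 2, 3, 1, 4, 3, 2, 0], [5, 0, 2, 3, 1, 4, 3, 2, 0], [5], [5,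 2, 3, 1, 4, 3, 2, 0], [5, 0], [5, 3, 1, 4, 3, 2, 0], [5, 2, 0], [5, 1, 4, 3, 2, 0], [5, 3, 2, 0], [5, 1, 3, 2, 0], [5, 4, 3, 2, 0], [5, 4, 3, 2, 0], [5, 4, 3, 2, 0], [5, 3, 2, 0], [5, 3, 2, 0], [5, 2, 0], [5, 2, 0], [5, 0], [5, 0], [5], [5], [3, 1, 2, 3, 4, 5, 0, 2, 3, 1, 4, 3, 2, 0], [4, 5, 0, 2, 3, 1, 4, 3, 2, 0], [4, 5], [4, 5, 2, 3, 1, 4, 3, 2, 0], [4, 5, 0], [4, 5, 3, 1, 4, 3, 2, 0], [4, 5, 2, 0], [4, 5, 1, 4, 3, 2, 0], [4, 5, 3, 2, 0], [4, 5, 1, 3, 2, 0], [4, 5, 4, 3, 2, 0], [4, 5, 4, 3, 2, 0], [4, 5, 4, 3, 2, 0], [4, 5, 3, 2, 0], [4, 5, 3, 2, 0], [4, 5, 2, 0], [4, 5, 2, 0], [4, 5, 0], [4, 5, 0], [4, 5], [4, 5], [1, 2, 3, 4, 5, 0, 2, 3, 1, 4, 3, 2,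 0], [3, 4, 5, 0, 2, 3, 1, 4, 3, 2, 0], [3, 4, 5], [3, 4, 5, 2, 3, 1, 4, 3, 2, 0], [3, 4, 5, 0], [3, 4, 5, 3, 1, 4, 3, 2, 0], [3, 4, 5, 2, 0], [3, 4, 5, 1, 4, 3, 2, 0], [3, 4, 5, 3, 2, 0], [3, 4, 5, 1, 3, 2, 0], [3, 4, 5, 4, 3, 2, 0], [3, 4, 5, 4, 3, 2, 0], [3, 4, 5, 4, 3, 2, 0], [3, 4, 5, 3, 2, 0], [3, 4, 5, 3, 2, 0], [3, 4, 5, 2, 0], [3, 4, 5, 2, 0], [3, 4, 5, 0], [3, 4, 5, 0], [3, 4, 5], [3, 4, 5], [1, 3, 4, 5, 0, 2, 3, 1, 4, 3, 2, 0], [2, 3, 4, 5, 0, 2, 3, 1, 4, 3, 2, 0], [2, 3, 4, 5], [2, 3, 4, 5, 2, 3, 1, 4, 3, 2, 0], [2, 3, 4, 5, 0], [2, 3, 4, 5, 3, 1, 4, 3, 2, 0], [2, 3, 4, 5, 2, 0], [2, 3, 4, 5, 1, 4, 3, 2, 0], [2, 3, 4, 5, 3, 2, 0], [2, 3, 4, 5,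 1, 3, 2, 0], [2, 3, 4, 5, 4, 3, 2, 0], [2, 3, 4, 5, 4, 3, 2, 0], [2, 3, 4, 5, 4, 3, 2, 0], [2, 3, 4, 5, 3, 2, 0], [2, 3, 4, 5, 3, 2, 0], [2, 3, 4, 5, 2, 0], [2, 3, 4, 5, 2, 0], [2, 3, 4, 5, 0], [2, 3, 4, 5, 0], [2, 3, 4, 5], [2, 3, 4, 5], [2, 3, 4, 5, 0, 2, 3, 1, 4, 3, 2, 0], [2, 3, 4, 5, 0, 2, 3, 1, 4, 3, 2, 0], [2, 3, 4, 5], [1, 3, 4, 5, 2, 3, 1, 4, 3, 2, 0], [1, 3, 4, 5, 0], [1, 3, 4, 5, 3, 1, 4, 3, 2, 0], [1, 3, 4, 5, 2, 0], [1, 3, 4, 5, 1, 4, 3, 2, 0], [1, 3, 4, 5, 3, 2, 0], [1, 3, 4, 5, 1, 3, 2, 0], [1, 3, 4, 5, 4, 3, 2, 0], [1, 3, 4, 5, 4, 3, 2, 0], [1, 3, 4, 5, 4, 3, 2, 0], [1, 3, 4, 5, 3, 2, 0], [1, 3, 4, 5, 3, 2, 0], [1, 3, 4, 5, 2, 0], [1, 3,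 4, 5, 2, 0], [1, 3, 4, 5, 0], [1, 3, 4, 5, 0], [1, 3, 4, 5], [2, 3, 4, 5], [3, 4, 5, 0, 2, 3, 1, 4, 3, 2, 0], [3, 4, 5, 0, 2, 3, 1, 4, 3, 2, 0], [3, 4, 5], [0, 2, 3, 4, 5, 2, 3, 1, 4, 3, 2, 0], [0, 2, 3, 4, 5, 0], [1, 2, 3, 4, 5, 3, 1, 4, 3, 2, 0], [1, 2, 3, 4, 5, 2, 0], [1, 2, 3, 4, 5, 1, 4, 3, 2, 0], [1, 2, 3, 4, 5, 3, 2, 0], [1, 2, 3, 4, 5, 1, 3, 2, 0], [1, 2, 3, 4, 5, 4, 3, 2, 0], [1, 2, 3, 4, 5, 4, 3, 2, 0], [1, 2, 3, 4, 5, 4, 3, 2, 0], [1, 2, 3, 4, 5, 3, 2, 0], [1, 2, 3, 4, 5, 3, 2, 0], [1, 2, 3, 4, 5, 2, 0], [1, 2, 3, 4, 5, 2, 0], [1, 2, 3, 4, 5, 0], [0, 2, 3, 4, 5, 0], [1, 2, 3, 4, 5], [3, 4, 5], [4, 5, 0, 2, 3, 1, 4, 3, 2, 0], [4, 5, 0, 2, 3, 1,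 4, 3, 2, 0], [4, 5], [0, 2, 3, 4, 5, 3, 1, 4, 3, 2, 0], [0, 2, 3, 4, 5, 2, 0], [1, 0, 2, 3, 4, 5, 3, 1, 4, 3, 2, 0], [1, 0, 2, 3, 4, 5, 2, 0], [3, 1, 2, 3, 4, 5, 1, 4, 3, 2, 0], [3, 1, 2, 3, 4, 5, 3, 2, 0], [3, 1, 2, 3, 4, 5, 1, 3, 2, 0], [3, 1, 2, 3, 4, 5, 4, 3, 2, 0], [3, 1, 2, 3, 4, 5, 4, 3, 2, 0], [3, 1, 2, 3, 4, 5, 4, 3, 2, 0], [3, 1, 2, 3, 4, 5, 3, 2, 0], [3, 1, 2, 3, 4, 5, 3, 2, 0], [3, 1, 2, 3, 4, 5, 2, 0], [1, 0, 2, 3, 4, 5, 2, 0], [3, 1, 2, 3, 4, 5, 0], [0, 2, 3, 4, 5, 2, 0], [3, 1, 2, 3, 4, 5], [4, 5], [5, 0, 2, 3, 1, 4, 3, 2, 0], [5, 0, 2, 3, 1, 4, 3, 2, 0], [5], [0, 2, 3, 4, 5, 1, 4, 3, 2, 0], [0, 2, 3, 4, 5, 3, 2, 0], [1, 0, 2, 3, 4, 5, 1,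 4, 3, 2, 0], [1, 0, 2, 3, 4, 5, 3, 2, 0], [3, 1, 0, 2, 3, 4, 5, 1, 4, 3, 2, 0], [3, 1, 0, 2, 3, 4, 5, 3, 2, 0], [4, 3, 1, 2, 3, 4, 5, 1, 3, 2, 0], [4, 3, 1, 2, 3, 4, 5, 4, 3, 2, 0], [4, 3, 1, 2, 3, 4, 5, 4, 3, 2, 0], [4, 3, 1, 2, 3, 4, 5, 4, 3, 2, 0], [4, 3, 1, 2, 3, 4, 5, 3, 2, 0], [3, 1, 0, 2, 3, 4, 5, 3, 2, 0], [4, 3, 1, 2, 3, 4, 5, 2, 0], [1, 0, 2, 3, 4, 5, 3, 2, 0], [4, 3, 1, 2, 3, 4, 5, 0], [0, 2, 3, 4, 5, 3, 2, 0], [4, 3, 1, 2, 3, 4, 5], [5], [0, 2, 3, 1, 4, 3, 2, 0], [0, 2, 3, 1, 4, 3, 2, 0], [], [0, 2, 3, 4, 5, 1, 3, 2, 0], [0, 2, 3, 4, 5, 4, 3, 2, 0], [1, 0, 2, 3, 4, 5, 1, 3, 2, 0], [1, 0, 2, 3, 4, 5, 4, 3, 2, 0], [3, 1, 0, 2, 3, 4, 5, 1, 3, 2,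 0], [3, 1, 0, 2, 3, 4, 5, 4, 3, 2, 0], [4, 3, 1, 0, 2, 3, 4, 5, 1, 3, 2, 0], [2, 3, 1, 0, 2, 3, 4, 5, 4, 3, 2, 0], [5, 4, 3, 1, 2, 3, 4, 5, 4, 3, 2, 0], [2, 3, 1, 0, 2, 3, 4, 5, 4, 3, 2, 0], [5, 4, 3, 1, 2, 3, 4, 5, 3, 2, 0], [3, 1, 0, 2, 3, 4, 5, 4, 3, 2, 0], [5, 4, 3, 1, 2, 3, 4, 5, 2, 0], [1, 0, 2, 3, 4, 5, 4, 3, 2, 0], [5, 4, 3, 1, 2, 3, 4, 5, 0], [0, 2, 3, 4, 5, 4, 3, 2, 0], [5, 4, 3, 1, 2, 3, 4, 5], [], [1, 3, 4, 5, 2, 3, 1, 4, 3, 2, 0], [1, 3, 4, 5, 2, 3, 1, 4, 3, 2, 0], [1, 3, 4, 5, 0], [0, 2, 3, 4, 5, 2, 3, 1, 4, 3, 2, 0], [0, 2, 3, 4, 5, 0], [0, 2, 3, 4, 5, 3, 1, 4, 3, 2, 0], [0, 2, 3, 4, 5, 2, 0], [0, 2, 3, 4, 5, 1, 4, 3, 2, 0], [0, 2, 3, 4,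 5, 3, 2, 0], [0, 2, 3, 4, 5, 1, 3, 2, 0], [0, 2, 3, 4, 5, 4, 3, 2, 0], [0, 2, 3, 4, 5, 4, 3, 2, 0], [0, 2, 3, 4, 5, 4, 3, 2, 0], [0, 2, 3, 4, 5, 3, 2, 0], [0, 2, 3, 4, 5, 3, 2, 0], [0, 2, 3, 4, 5, 2, 0], [0, 2, 3, 4, 5, 2, 0], [0, 2, 3, 4, 5, 0], [0, 2, 3, 4, 5, 0], [0, 2, 3, 4, 5], [1, 3, 4, 5, 0], [3, 4, 5, 2, 3, 1, 4, 3, 2, 0], [3, 4, 5, 2, 3, 1, 4, 3, 2, 0], [3, 4, 5, 0], [2, 3, 4, 5, 2, 3, 1, 4, 3, 2, 0], [2, 3, 4, 5, 0], [1, 0, 2, 3, 4, 5, 3, 1, 4, 3, 2, 0], [1, 0, 2, 3, 4, 5, 2, 0], [1, 0, 2, 3, 4, 5, 1, 4, 3, 2, 0], [1, 0, 2, 3, 4, 5, 3, 2, 0], [1, 0, 2, 3, 4, 5, 1, 3, 2, 0], [1, 0, 2, 3, 4, 5, 4, 3, 2, 0], [1, 0, 2, 3, 4, 5, 4, 3, 2, 0], [1, 0,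 2, 3, 4, 5, 4, 3, 2, 0], [1, 0, 2, 3, 4, 5, 3, 2, 0], [1, 0, 2, 3, 4, 5, 3, 2, 0], [1, 0, 2, 3, 4, 5, 2, 0], [1, 0, 2, 3, 4, 5, 2, 0], [1, 0, 2, 3, 4, 5, 0], [2, 3, 4, 5, 0], [1, 0, 2, 3, 4, 5], [3, 4, 5, 0], [4, 5, 2, 3, 1, 4, 3, 2, 0], [4, 5, 2, 3, 1, 4, 3, 2, 0], [4, 5, 0], [2, 3, 4, 5, 3, 1, 4, 3, 2, 0], [2, 3, 4, 5, 2, 0], [1, 2, 3, 4, 5, 3, 1, 4, 3, 2, 0], [1, 2, 3, 4, 5, 2, 0], [3, 1, 0, 2, 3, 4, 5, 1, 4, 3, 2, 0], [3, 1, 0, 2, 3, 4, 5, 3, 2, 0], [3, 1, 0, 2, 3, 4, 5, 1, 3, 2, 0], [3, 1, 0, 2, 3, 4, 5, 4, 3, 2, 0], [3, 1, 0, 2, 3, 4, 5, 4, 3, 2, 0], [3, 1, 0, 2, 3, 4, 5, 4, 3, 2, 0], [3, 1, 0, 2, 3, 4, 5, 3, 2, 0], [3, 1, 0, 2, 3, 4, 5, 3, 2, 0],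 [3, 1, 0, 2, 3, 4, 5, 2, 0], [1, 2, 3, 4, 5, 2, 0], [3, 1, 0, 2, 3, 4, 5, 0], [2, 3, 4, 5, 2, 0], [3, 1, 0, 2, 3, 4, 5], [4, 5, 0], [5, 2, 3, 1, 4, 3, 2, 0], [5, 2, 3, 1, 4, 3, 2, 0], [5, 0], [2, 3, 4, 5, 1, 4, 3, 2, 0], [2, 3, 4, 5, 3, 2, 0], [1, 2, 3, 4, 5, 1, 4, 3, 2, 0], [1, 2, 3, 4, 5, 3, 2, 0], [3, 1, 2, 3, 4, 5, 1, 4, 3, 2, 0], [3, 1, 2, 3, 4, 5, 3, 2, 0], [4, 3, 1, 0, 2, 3, 4, 5, 1, 3, 2, 0], [2, 3, 1, 0, 2, 3, 4, 5, 4, 3, 2, 0], [2, 3, 1, 0, 2, 3, 4, 5, 4, 3, 2, 0], [2, 3, 1, 0, 2, 3, 4, 5, 4, 3, 2, 0], [4, 3, 1, 0, 2, 3, 4, 5, 3, 2, 0], [3, 1, 2, 3, 4, 5, 3, 2, 0], [4, 3, 1, 0, 2, 3, 4, 5, 2, 0], [1, 2, 3, 4, 5, 3, 2, 0], [4, 3, 1, 0, 2, 3, 4,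 5, 0], [2, 3, 4, 5, 3, 2, 0], [4, 3, 1, 0, 2, 3, 4, 5], [5, 0], [2, 3, 1, 4, 3, 2, 0], [2, 3, 1, 4, 3, 2, 0], [0], [2, 3, 4, 5, 1, 3, 2, 0], [2, 3, 4, 5, 4, 3, 2, 0], [1, 2, 3, 4, 5, 1, 3, 2, 0], [1, 2, 3, 4, 5, 4, 3, 2, 0], [3, 1, 2, 3, 4, 5, 1, 3, 2, 0], [3, 1, 2, 3, 4, 5, 4, 3, 2, 0], [4, 3, 1, 2, 3, 4, 5, 1, 3, 2, 0], [4, 3, 1, 2, 3, 4, 5, 4, 3, 2, 0], [2, 3, 1, 0, 2, 3, 4, 5, 3, 2, 0], [4, 3, 1, 2, 3, 4, 5, 4, 3, 2, 0], [4, 2, 3, 1, 0, 2, 3, 4, 5, 3, 2, 0], [3, 1, 2, 3, 4, 5, 4, 3, 2, 0], [5, 4, 3, 1, 0, 2, 3, 4, 5, 2, 0], [1, 2, 3, 4, 5, 4, 3, 2, 0], [5, 4, 3, 1, 0, 2, 3, 4, 5, 0], [2, 3, 4, 5, 4, 3, 2, 0], [5, 4, 3, 1, 0, 2, 3, 4, 5], [0], [4, 5,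 3, 1, 4, 3, 2, 0], [4, 5, 3, 1, 4, 3, 2, 0], [4, 5, 2, 0], [3, 4, 5, 3, 1, 4, 3, 2, 0], [3, 4, 5, 2, 0], [1, 3, 4, 5, 3, 1, 4, 3, 2, 0], [1, 3, 4, 5, 2, 0], [4, 3, 1, 2, 3, 4, 5, 4, 3, 2, 0], [4, 3, 1, 2, 3, 4, 5, 4, 3, 2, 0], [5, 4, 3, 1, 2, 3, 4, 5, 4, 3, 2, 0], [2, 3, 1, 0, 2, 3, 4, 5, 4, 3, 2, 0], [2, 3, 1, 0, 2, 3, 4, 5, 4, 3, 2, 0], [2, 3, 1, 0, 2, 3, 4, 5, 4, 3, 2, 0], [2, 3, 1, 0, 2, 3, 4, 5, 3, 2, 0], [4, 3, 1, 2, 3, 4, 5, 4, 3, 2, 0], [2, 3, 1, 0, 2, 3, 4, 5, 2, 0], [1, 3, 4, 5, 2, 0], [2, 3, 1, 0, 2, 3, 4, 5, 0], [3, 4, 5, 2, 0], [2, 3, 1, 0, 2, 3, 4, 5], [4, 5, 2, 0], [5, 3, 1, 4, 3, 2, 0], [5, 3, 1, 4, 3, 2, 0], [5, 2, 0], [3, 4, 5, 1, 4, 3,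 2, 0], [3, 4, 5, 3, 2, 0], [1, 3, 4, 5, 1, 4, 3, 2, 0], [1, 3, 4, 5, 3, 2, 0], [3, 1, 2, 3, 4, 5, 4, 3, 2, 0], [3, 1, 2, 3, 4, 5, 4, 3, 2, 0], [5, 4, 3, 1, 2, 3, 4, 5, 3, 2, 0], [3, 1, 0, 2, 3, 4, 5, 4, 3, 2, 0], [3, 1, 0, 2, 3, 4, 5, 4, 3, 2, 0], [3, 1, 0, 2, 3, 4, 5, 4, 3, 2, 0], [4, 2, 3, 1, 0, 2, 3, 4, 5, 3, 2, 0], [3, 1, 2, 3, 4, 5, 4, 3, 2, 0], [4, 2, 3, 1, 0, 2, 3, 4, 5, 2, 0], [1, 3, 4, 5, 3, 2, 0], [4, 2, 3, 1, 0, 2, 3, 4, 5, 0], [3, 4, 5, 3, 2, 0], [4, 2, 3, 1, 0, 2, 3, 4, 5], [5, 2, 0], [3, 1, 4, 3, 2, 0], [3, 1, 4, 3, 2, 0], [2, 0], [3, 4, 5, 1, 3, 2, 0], [3, 4, 5, 4, 3, 2, 0], [1, 3, 4, 5, 1, 3, 2, 0], [1, 3, 4, 5, 4, 3, 2, 0], [3, 1, 2, 3,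 4, 5, 3, 2, 0], [3, 1, 2, 3, 4, 5, 3, 2, 0], [4, 3, 1, 2, 3, 4, 5, 3, 2, 0], [3, 1, 0, 2, 3, 4, 5, 3, 2, 0], [3, 1, 0, 2, 3, 4, 5, 3, 2, 0], [3, 1, 0, 2, 3, 4, 5, 3, 2, 0], [4, 3, 1, 0, 2, 3, 4, 5, 3, 2, 0], [3, 1, 2, 3, 4, 5, 3, 2, 0], [3, 4, 2, 3, 1, 0, 2, 3, 4, 5, 2, 0], [1, 3, 4, 5, 4, 3, 2, 0], [5, 4, 2, 3, 1, 0, 2, 3, 4, 5, 0], [3, 4, 5, 4, 3, 2, 0], [5, 4, 2, 3, 1, 0, 2, 3, 4, 5], [2, 0], [5, 1, 4, 3, 2, 0], [5, 1, 4, 3, 2, 0], [5, 3, 2, 0], [4, 5, 1, 4, 3, 2, 0], [4, 5, 3, 2, 0], [1, 3, 4, 5, 4, 3, 2, 0], [1, 3, 4, 5, 4, 3, 2, 0], [1, 2, 3, 4, 5, 4, 3, 2, 0], [1, 2, 3, 4, 5, 4, 3, 2, 0], [5, 4, 3, 1, 2, 3, 4, 5, 2, 0], [1, 0, 2, 3, 4, 5, 4, 3, 2,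 0], [1, 0, 2, 3, 4, 5, 4, 3, 2, 0], [1, 0, 2, 3, 4, 5, 4, 3, 2, 0], [5, 4, 3, 1, 0, 2, 3, 4, 5, 2, 0], [1, 2, 3, 4, 5, 4, 3, 2, 0], [3, 4, 2, 3, 1, 0, 2, 3, 4, 5, 2, 0], [1, 3, 4, 5, 4, 3, 2, 0], [3, 4, 2, 3, 1, 0, 2, 3, 4, 5, 0], [4, 5, 3, 2, 0], [3, 4, 2, 3, 1, 0, 2, 3, 4, 5], [5, 3, 2, 0], [1, 4, 3, 2, 0], [1, 4, 3, 2, 0], [3, 2, 0], [4, 5, 1, 3, 2, 0], [4, 5, 4, 3, 2, 0], [1, 3, 4, 5, 3, 2, 0], [1, 3, 4, 5, 3, 2, 0], [1, 2, 3, 4, 5, 3, 2, 0], [1, 2, 3, 4, 5, 3, 2, 0], [4, 3, 1, 2, 3, 4, 5, 2, 0], [1, 0, 2, 3, 4, 5, 3, 2, 0], [1, 0, 2, 3, 4, 5, 3, 2, 0], [1, 0, 2, 3, 4, 5, 3, 2, 0], [4, 3, 1, 0, 2, 3, 4, 5, 2, 0], [1, 2, 3, 4, 5, 3, 2, 0], [4, 2, 3,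 1, 0, 2, 3, 4, 5, 2, 0], [1, 3, 4, 5, 3, 2, 0], [1, 3, 4, 2, 3, 1, 0, 2, 3, 4, 5, 0], [4, 5, 4, 3, 2, 0], [5, 3, 4, 2, 3, 1, 0, 2, 3, 4, 5], [3, 2, 0], [1, 3, 2, 0], [1, 3, 2, 0], [4, 3, 2, 0], [5, 1, 3, 2, 0], [5, 4, 3, 2, 0], [1, 3, 4, 5, 2, 0], [1, 3, 4, 5, 2, 0], [1, 2, 3, 4, 5, 2, 0], [1, 2, 3, 4, 5, 2, 0], [3, 1, 2, 3, 4, 5, 2, 0], [1, 0, 2, 3, 4, 5, 2, 0], [1, 0, 2, 3, 4, 5, 2, 0], [1, 0, 2, 3, 4, 5, 2, 0], [3, 1, 0, 2, 3, 4, 5, 2, 0], [1, 2, 3, 4, 5, 2, 0], [2, 3, 1, 0, 2, 3, 4, 5, 2, 0], [1, 3, 4, 5, 2, 0], [1, 3, 4, 2, 3, 1, 0, 2, 3, 4, 5], [5, 4, 3, 2, 0], [5, 1, 3, 4, 2, 3, 1, 0, 2, 3, 4, 5], [4, 3, 2, 0], [5, 4, 3, 2, 0], [5, 4, 3, 2, 0], [5,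 4, 3, 2, 0], [4, 5, 4, 3, 2, 0], [4, 5, 4, 3, 2, 0], [3, 4, 5, 4, 3, 2, 0], [3, 4, 5, 4, 3, 2, 0], [2, 3, 4, 5, 4, 3, 2, 0], [2, 3, 4, 5, 4, 3, 2, 0], [5, 4, 3, 1, 2, 3, 4, 5, 0], [0, 2, 3, 4, 5, 4, 3, 2, 0], [0, 2, 3, 4, 5, 4, 3, 2, 0], [0, 2, 3, 4, 5, 4, 3, 2, 0], [5, 4, 3, 1, 0, 2, 3, 4, 5, 0], [2, 3, 4, 5, 4, 3, 2, 0], [5, 4, 2, 3, 1, 0, 2, 3, 4, 5, 0], [3, 4, 5, 4, 3, 2, 0], [1, 3, 4, 2, 3, 1, 0, 2, 3, 4, 5, 0], [4, 5, 4, 3, 2, 0], [1, 3, 4, 2, 3, 1, 0, 2, 3, 4, 5], [5, 4, 3, 2, 0], [4, 3, 2, 0], [4, 3, 2, 0], [4, 3, 2, 0], [4, 5, 3, 2, 0], [4, 5, 3, 2, 0], [3, 4, 5, 3, 2, 0], [3, 4, 5, 3, 2, 0], [2, 3, 4, 5, 3, 2, 0], [2, 3, 4, 5, 3, 2, 0], [4, 3,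 1, 2, 3, 4, 5, 0], [0, 2, 3, 4, 5, 3, 2, 0], [0, 2, 3, 4, 5, 3, 2, 0], [0, 2, 3, 4, 5, 3, 2, 0], [4, 3, 1, 0, 2, 3, 4, 5, 0], [2, 3, 4, 5, 3, 2, 0], [4, 2, 3, 1, 0, 2, 3, 4, 5, 0], [3, 4, 5, 3, 2, 0], [3, 4, 2, 3, 1, 0, 2, 3, 4, 5, 0], [4, 5, 3, 2, 0], [5, 1, 3, 4, 2, 3, 1, 0, 2, 3, 4, 5], [4, 3, 2, 0], [3, 2, 0], [3, 2, 0], [3, 2, 0], [5, 3, 2, 0], [5, 3, 2, 0], [3, 4, 5, 2, 0], [3, 4, 5, 2, 0], [2, 3, 4, 5, 2, 0], [2, 3, 4, 5, 2, 0], [3, 1, 2, 3, 4, 5, 0], [0, 2, 3, 4, 5, 2, 0], [0, 2, 3, 4, 5, 2, 0], [0, 2, 3, 4, 5, 2, 0], [3, 1, 0, 2, 3, 4, 5, 0], [2, 3, 4, 5, 2, 0], [2, 3, 1, 0, 2, 3, 4, 5, 0], [3, 4, 5, 2, 0], [3, 4, 2, 3, 1, 0, 2, 3, 4, 5], [5, 3,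 2, 0], [5, 3, 4, 2, 3, 1, 0, 2, 3, 4, 5], [3, 2, 0], [2, 0], [2, 0], [2, 0], [5, 2, 0], [5, 2, 0], [4, 5, 2, 0], [4, 5, 2, 0], [2, 3, 4, 5, 0], [2, 3, 4, 5, 0], [1, 2, 3, 4, 5, 0], [0, 2, 3, 4, 5, 0], [0, 2, 3, 4, 5, 0], [0, 2, 3, 4, 5, 0], [1, 0, 2, 3, 4, 5, 0], [2, 3, 4, 5, 0], [2, 3, 1, 0, 2, 3, 4, 5], [4, 5, 2, 0], [4, 2, 3, 1, 0, 2, 3, 4, 5], [5, 2, 0], [5, 4, 2, 3, 1, 0, 2, 3, 4, 5], [2, 0], [0], [0], [0], [5, 0], [5, 0], [4, 5, 0], [4, 5, 0], [3, 4, 5, 0], [3, 4, 5, 0], [1, 3, 4, 5, 0], [1, 3, 4, 5, 0], [0, 2, 3, 4, 5], [1, 3, 4, 5, 0], [1, 0, 2, 3, 4, 5], [3, 4, 5, 0], [3, 1, 0, 2, 3, 4, 5], [4, 5, 0], [4, 3, 1, 0, 2, 3, 4, 5], [5, 0], [5, 4, 3,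 1, 0, 2, 3, 4, 5], [0], [], [], [], [5], [5], [4, 5], [4, 5], [3, 4, 5], [3, 4, 5], [2, 3, 4, 5], [2, 3, 4, 5], [1, 3, 4, 5], [2, 3, 4, 5], [1, 2, 3, 4, 5], [3, 4, 5], [3, 1, 2, 3, 4, 5], [4, 5], [4, 3, 1, 2, 3, 4, 5], [5], [5, 4, 3, 1, 2, 3, 4, 5], []],
  [[6, 4, 3, 1, 2, 3, 4, 5, 0, 2, 3, 1, 4, 3, 2, 0], [3, 4, 2, 3, 1, 0, 2, 3, 4, 5, 6, 4, 3, 1, 2, 3, 4, 5, 1, 3, 2, 0], [4, 5, 3, 4, 0, 2, 3, 1, 3, 4, 2, 3, 2, 0], [6, 0, 2, 3, 4, 5, 1, 3, 4, 2, 3, 1, 0, 2, 3, 4, 5, 2, 3, 1, 2, 3, 4, 0, 2, 3, 2, 0], [4, 5, 3, 4, 2, 3, 1, 3, 4, 2, 3, 2, 0], [6, 2, 3, 4, 5, 1, 3, 4, 2, 3, 1, 0, 2, 3, 4, 5, 2, 3, 1, 2, 3, 4, 0, 2, 3, 2, 0], [4, 5, 3, 4, 2, 3, 1, 3, 4, 2,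 3, 0], [6, 3, 4, 5, 1, 3, 4, 2, 3, 1, 0, 2, 3, 4, 5, 2, 3, 1, 2, 3, 4, 0, 2, 3, 2, 0], [4, 5, 2, 0], [6, 3, 4, 5, 1, 3, 4, 2, 3, 1, 0, 2, 3, 4, 5, 2, 3, 1, 2, 3, 4, 0, 2, 3, 2, 0], [4, 5, 0], [6, 2, 3, 4, 5, 1, 3, 4, 2, 3, 1, 0, 2, 3, 4, 5, 2, 3, 1, 2, 3, 4, 0, 2, 3, 2, 0], [4, 5], [6, 0, 2, 3, 4, 5, 1, 3, 4, 2, 3, 1, 0, 2, 3, 4, 5, 2, 3, 1, 2, 3, 4, 0, 2, 3, 2, 0], [4, 2, 3, 1, 0, 2, 3, 4, 5, 6, 4, 3, 1, 2, 3, 4, 5, 1, 3, 2, 0], [3, 4, 5, 3, 4, 0, 2, 3, 1, 3, 4, 2, 3, 2, 0], [6, 0, 2, 3, 4, 5, 1, 3, 4, 2, 3, 1, 0, 2, 3, 4, 5, 2, 3, 1, 3, 4, 0, 2, 3, 2, 0], [3, 4, 5, 3, 4, 2, 3, 1, 3, 4, 2, 3, 2, 0], [6, 2, 3, 4, 5, 1, 3, 4, 2, 3, 1, 0, 2, 3, 4, 5, 2, 3,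 1, 3, 4, 0, 2, 3, 2, 0], [3, 4, 5, 3, 4, 2, 3, 1, 3, 4, 2, 3, 0], [6, 4, 5, 1, 3, 4, 2, 3, 1, 0, 2, 3, 4, 5, 2, 3, 1, 2, 3, 4, 0, 2, 3, 2, 0], [6, 5, 3, 2, 0], [6, 4, 5, 1, 3, 4, 2, 3, 1, 0, 2, 3, 4, 5, 2, 3, 1, 2, 3, 4, 0, 2, 3, 2, 0], [6, 5, 3, 0], [6, 2, 3, 4, 5, 1, 3, 4, 2, 3, 1, 0, 2, 3, 4, 5, 2, 3, 1, 3, 4, 0, 2, 3, 2, 0], [6, 5, 3], [6, 0, 2, 3, 4, 5, 1, 3, 4, 2, 3, 1, 0, 2, 3, 4, 5, 2, 3, 1, 3, 4, 0, 2, 3, 2, 0], [4, 3, 1, 0, 2, 3, 4, 5, 6, 4, 3, 1, 2, 3, 4, 5, 1, 3, 2, 0], [2, 3, 4, 5, 3, 4, 0, 2, 3, 1, 3, 4, 2, 3, 2, 0], [6, 0, 2, 3, 4, 5, 1, 3, 4, 2, 3, 1, 0, 2, 3, 4, 5, 2, 3, 1, 4, 0, 2, 3, 2, 0], [2, 3, 4, 5, 3, 4, 2, 3, 1, 3, 4, 2, 3, 2, 0],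 [6, 3, 4, 5, 1, 3, 4, 2, 3, 1, 0, 2, 3, 4, 5, 2, 3, 1, 3, 4, 0, 2, 3, 2, 0], [2, 3, 4, 5, 3, 4, 2, 3, 1, 3, 4, 2, 3, 0], [6, 4, 5, 1, 3, 4, 2, 3, 1, 0, 2, 3, 4, 5, 2, 3, 1, 3, 4, 0, 2, 3, 2, 0], [6, 5, 2, 3, 2, 0], [6, 4, 5, 1, 3, 4, 2, 3, 1, 0, 2, 3, 4, 5, 2, 3, 1, 3, 4, 0, 2, 3, 2, 0], [6, 5, 2, 3, 0], [6, 3, 4, 5, 1, 3, 4, 2, 3, 1, 0, 2, 3, 4, 5, 2, 3, 1, 3, 4, 0, 2, 3, 2, 0], [6, 5, 2, 3], [6, 0, 2, 3, 4, 5, 1, 3, 4, 2, 3, 1, 0, 2, 3, 4, 5, 2, 3, 1, 4, 0, 2, 3, 2, 0], [4, 2, 3, 1, 0, 2, 3, 4, 5, 6, 4, 3, 1, 2, 3, 4, 5, 3, 2, 0], [2, 3, 4, 5, 3, 4, 0, 2, 3, 1, 3, 4, 2, 3, 2, 0], [6, 0, 2, 3, 4, 5, 1, 3, 4, 2, 3, 1, 0, 2, 3, 4, 5, 2, 3, 1, 4, 0, 2, 3,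 2, 0], [1, 3, 4, 5, 3, 4, 2, 3, 1, 3, 4, 2, 3, 2, 0], [6, 2, 3, 4, 5, 1, 3, 4, 2, 3, 1, 0, 2, 3, 4, 5, 2, 3, 1, 4, 0, 2, 3, 2, 0], [1, 3, 4, 5, 3, 4, 2, 3, 1, 3, 4, 2, 3, 0], [6, 4, 5, 3, 4, 2, 3, 1, 0, 2, 3, 4, 5, 2, 3, 1, 2, 3, 4, 0, 2, 3, 2, 0], [6, 5, 1, 3, 2, 0], [6, 4, 5, 3, 4, 2, 3, 1, 0, 2, 3, 4, 5, 2, 3, 1, 2, 3, 4, 0, 2, 3, 2, 0], [6, 5, 1, 3, 0], [6, 2, 3, 4, 5, 1, 3, 4, 2, 3, 1, 0, 2, 3, 4, 5, 2, 3, 1, 4, 0, 2, 3, 2, 0], [6, 5, 1, 3], [6, 0, 2, 3, 4, 5, 1, 3, 4, 2, 3, 1, 0, 2, 3, 4, 5, 2, 3, 1, 4, 0, 2, 3, 2, 0], [4, 3, 1, 0, 2, 3, 4, 5, 6, 4, 3, 1, 2, 3, 4, 5, 3, 2, 0], [3, 4, 5, 3, 4, 0, 2, 3, 1, 3, 4, 2, 3, 2, 0], [6, 0, 2, 3, 4, 5, 1, 3,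 4, 2, 3, 1, 0, 2, 3, 4, 5, 2, 3, 1, 3, 4, 0, 2, 3, 2, 0], [0, 2, 3, 4, 5, 3, 4, 2, 3, 1, 3, 4, 2, 3, 2, 0], [6, 3, 4, 5, 1, 3, 4, 2, 3, 1, 0, 2, 3, 4, 5, 2, 3, 1, 4, 0, 2, 3, 2, 0], [1, 2, 3, 4, 5, 3, 4, 2, 3, 1, 3, 4, 2, 3, 0], [6, 4, 5, 3, 4, 2, 3, 1, 0, 2, 3, 4, 5, 2, 3, 1, 3, 4, 0, 2, 3, 2, 0], [6, 5, 1, 2, 3, 2, 0], [6, 4, 5, 3, 4, 2, 3, 1, 0, 2, 3, 4, 5, 2, 3, 1, 3, 4, 0, 2, 3, 2, 0], [6, 5, 1, 2, 3, 0], [6, 3, 4, 5, 1, 3, 4, 2, 3, 1, 0, 2, 3, 4, 5, 2, 3, 1, 4, 0, 2, 3, 2, 0], [6, 5, 1, 2, 3], [6, 0, 2, 3, 4, 5, 1, 3, 4, 2, 3, 1, 0, 2, 3, 4, 5, 2, 3, 1, 3, 4, 0, 2, 3, 2, 0], [4, 3, 1, 0, 2, 3, 4, 5, 6, 4, 3, 1, 2, 3, 4, 5, 2, 0], [4, 5, 3, 4, 0, 2,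 3, 1, 3, 4, 2, 3, 2, 0], [6, 0, 2, 3, 4, 5, 1, 3, 4, 2, 3, 1, 0, 2, 3, 4, 5, 2, 3, 1, 2, 3, 4, 0, 2, 3, 2, 0], [0, 2, 3, 4, 5, 3, 4, 2, 3, 1, 3, 4, 2, 3, 0], [6, 4, 5, 1, 3, 4, 2, 3, 1, 0, 2, 3, 4, 5, 2, 3, 1, 4, 0, 2, 3, 2, 0], [1, 0, 2, 3, 4, 5, 3, 4, 2, 3, 1, 3, 4, 2, 3, 0], [6, 4, 5, 3, 4, 2, 3, 1, 0, 2, 3, 4, 5, 2, 3, 1, 4, 0, 2, 3, 2, 0], [6, 5, 3, 1, 2, 3, 2, 0], [6, 4, 5, 3, 4, 2, 3, 1, 0, 2, 3, 4, 5, 2, 3, 1, 4, 0, 2, 3, 2, 0], [6, 5, 3, 1, 2, 3, 0], [6, 4, 5, 1, 3, 4, 2, 3, 1, 0, 2, 3, 4, 5, 2, 3, 1, 4, 0, 2, 3, 2, 0], [6, 5, 3, 1, 2, 3], [6, 0, 2, 3, 4, 5, 1, 3, 4, 2, 3, 1, 0, 2, 3, 4, 5, 2, 3, 1, 2, 3, 4, 0, 2, 3, 2, 0], [4, 3, 1, 2, 3, 4, 5,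 6, 4, 3, 1, 2, 3, 4, 5, 1, 3, 2, 0], [1, 3, 4, 5, 3, 4, 2, 3, 1, 3, 4, 2, 3, 2, 0], [6, 2, 3, 4, 5, 1, 3, 4, 2, 3, 1, 0, 2, 3, 4, 5, 2, 3, 1, 4, 0, 2, 3, 2, 0], [0, 2, 3, 4, 5, 3, 4, 2, 3, 1, 3, 4, 2, 3, 2, 0], [6, 3, 4, 5, 1, 3, 4, 2, 3, 1, 0, 2, 3, 4, 5, 2, 3, 1, 4, 0, 2, 3, 2, 0], [0, 2, 3, 4, 5, 3, 4, 2, 3, 1, 3, 4, 2, 3, 0], [6, 4, 5, 1, 3, 4, 2, 3, 1, 0, 2, 3, 4, 5, 2, 3, 1, 4, 0, 2, 3, 2, 0], [6, 5, 0, 2, 3, 2, 0], [6, 4, 5, 1, 3, 4, 2, 3, 1, 0, 2, 3, 4, 5, 2, 3, 1, 4, 0, 2, 3, 2, 0], [6, 5, 0, 2, 3, 0], [6, 3, 4, 5, 1, 3, 4, 2, 3, 1, 0, 2, 3, 4, 5, 2, 3, 1, 4, 0, 2, 3, 2, 0], [6, 5, 0, 2, 3], [6, 2, 3, 4, 5, 1, 3, 4, 2, 3, 1, 0, 2, 3, 4, 5, 2, 3,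 1, 4, 0, 2, 3, 2, 0], [4, 3, 1, 2, 3, 4, 5, 6, 4, 3, 1, 2, 3, 4, 5, 3, 2, 0], [3, 4, 5, 3, 4, 2, 3, 1, 3, 4, 2, 3, 2, 0], [6, 2, 3, 4, 5, 1, 3, 4, 2, 3, 1, 0, 2, 3, 4, 5, 2, 3, 1, 3, 4, 0, 2, 3, 2, 0], [2, 3, 4, 5, 3, 4, 2, 3, 1, 3, 4, 2, 3, 2, 0], [6, 3, 4, 5, 1, 3, 4, 2, 3, 1, 0, 2, 3, 4, 5, 2, 3, 1, 3, 4, 0, 2, 3, 2, 0], [1, 0, 2, 3, 4, 5, 3, 4, 2, 3, 1, 3, 4, 2, 3, 0], [6, 4, 5, 3, 4, 2, 3, 1, 0, 2, 3, 4, 5, 2, 3, 1, 4, 0, 2, 3, 2, 0], [6, 5, 1, 0, 2, 3, 2, 0], [6, 4, 5, 3, 4, 2, 3, 1, 0, 2, 3, 4, 5, 2, 3, 1, 4, 0, 2, 3, 2, 0], [6, 5, 1, 0, 2, 3, 0], [6, 3, 4, 5, 1, 3, 4, 2, 3, 1, 0, 2, 3, 4, 5, 2, 3, 1, 3, 4, 0, 2, 3, 2, 0], [6, 5, 1, 0, 2, 3], [6,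 2, 3, 4, 5, 1, 3, 4, 2, 3, 1, 0, 2, 3, 4, 5, 2, 3, 1, 3, 4, 0, 2, 3, 2, 0], [4, 3, 1, 2, 3, 4, 5, 6, 4, 3, 1, 2, 3, 4, 5, 2, 0], [4, 5, 3, 4, 2, 3, 1, 3, 4, 2, 3, 2, 0], [6, 2, 3, 4, 5, 1, 3, 4, 2, 3, 1, 0, 2, 3, 4, 5, 2, 3, 1, 2, 3, 4, 0, 2, 3, 2, 0], [2, 3, 4, 5, 3, 4, 2, 3, 1, 3, 4, 2, 3, 0], [6, 4, 5, 1, 3, 4, 2, 3, 1, 0, 2, 3, 4, 5, 2, 3, 1, 3, 4, 0, 2, 3, 2, 0], [1, 2, 3, 4, 5, 3, 4, 2, 3, 1, 3, 4, 2, 3, 0], [6, 4, 5, 3, 4, 2, 3, 1, 0, 2, 3, 4, 5, 2, 3, 1, 3, 4, 0, 2, 3, 2, 0], [6, 5, 3, 1, 0, 2, 3, 2, 0], [6, 4, 5, 3, 4, 2, 3, 1, 0, 2, 3, 4, 5, 2, 3, 1, 3, 4, 0, 2, 3, 2, 0], [6, 5, 3, 1, 0, 2, 3, 0], [6, 4, 5, 1, 3, 4, 2, 3, 1, 0, 2, 3, 4, 5, 2,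 3, 1, 3, 4, 0, 2, 3, 2, 0], [6, 5, 3, 1, 0, 2, 3], [6, 2, 3, 4, 5, 1, 3, 4, 2, 3, 1, 0, 2, 3, 4, 5, 2, 3, 1, 2, 3, 4, 0, 2, 3, 2, 0], [4, 3, 1, 2, 3, 4, 5, 6, 4, 3, 1, 2, 3, 4, 5, 0], [4, 5, 3, 4, 2, 3, 1, 3, 4, 2, 3, 0], [6, 3, 4, 5, 1, 3, 4, 2, 3, 1, 0, 2, 3, 4, 5, 2, 3, 1, 2, 3, 4, 0, 2, 3, 2, 0], [3, 4, 5, 3, 4, 2, 3, 1, 3, 4, 2, 3, 0], [6, 4, 5, 1, 3, 4, 2, 3, 1, 0, 2, 3, 4, 5, 2, 3, 1, 2, 3, 4, 0, 2, 3, 2, 0], [1, 3, 4, 5, 3, 4, 2, 3, 1, 3, 4, 2, 3, 0], [6, 4, 5, 3, 4, 2, 3, 1, 0, 2, 3, 4, 5, 2, 3, 1, 2, 3, 4, 0, 2, 3, 2, 0], [6, 5, 2, 3, 1, 0, 2, 3, 2, 0], [6, 4, 5, 3, 4, 2, 3, 1, 0, 2, 3, 4, 5, 2, 3, 1, 2, 3, 4, 0, 2, 3, 2, 0], [6, 5, 2, 3, 1, 0,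 2, 3, 0], [6, 4, 5, 1, 3, 4, 2, 3, 1, 0, 2, 3, 4, 5, 2, 3, 1, 2, 3, 4, 0, 2, 3, 2, 0], [6, 5, 2, 3, 1, 0, 2, 3], [6, 3, 4, 5, 1, 3, 4, 2, 3, 1, 0, 2, 3, 4, 5, 2, 3, 1, 2, 3, 4, 0, 2, 3, 2, 0], [6, 5, 1, 3, 2, 0], [6, 5, 1, 3, 2, 0], [6, 4, 5, 3, 4, 2, 3, 1, 0, 2, 3, 4, 5, 2, 3, 1, 2, 3, 4, 0, 2, 3, 2, 0], [6, 5, 1, 2, 3, 2, 0], [6, 4, 5, 3, 4, 2, 3, 1, 0, 2, 3, 4, 5, 2, 3, 1, 3, 4, 0, 2, 3, 2, 0], [6, 5, 3, 1, 2, 3, 2, 0], [6, 4, 5, 3, 4, 2, 3, 1, 0, 2, 3, 4, 5, 2, 3, 1, 4, 0, 2, 3, 2, 0], [6, 5, 1, 0, 2, 3, 2, 0], [6, 4, 5, 3, 4, 2, 3, 1, 0, 2, 3, 4, 5, 2, 3, 1, 4, 0, 2, 3, 2, 0], [6, 5, 3, 1, 0, 2, 3, 2, 0], [6, 4, 5, 3, 4, 2, 3, 1, 0, 2, 3, 4, 5, 2,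 3, 1, 3, 4, 0, 2, 3, 2, 0], [6, 5, 2, 3, 1, 0, 2, 3, 2, 0], [6, 4, 5, 3, 4, 2, 3, 1, 0, 2, 3, 4, 5, 2, 3, 1, 2, 3, 4, 0, 2, 3, 2, 0], [6, 5, 3, 2, 0], [6, 5, 3, 2, 0], [6, 4, 5, 1, 3, 4, 2, 3, 1, 0, 2, 3, 4, 5, 2, 3, 1, 2, 3, 4, 0, 2, 3, 2, 0], [6, 5, 2, 3, 2, 0], [6, 4, 5, 1, 3, 4, 2, 3, 1, 0, 2, 3, 4, 5, 2, 3, 1, 3, 4, 0, 2, 3, 2, 0], [6, 5, 3, 1, 2, 3, 0], [6, 4, 5, 1, 3, 4, 2, 3, 1, 0, 2, 3, 4, 5, 2, 3, 1, 4, 0, 2, 3, 2, 0], [6, 5, 0, 2, 3, 2, 0], [6, 4, 5, 1, 3, 4, 2, 3, 1, 0, 2, 3, 4, 5, 2, 3, 1, 4, 0, 2, 3, 2, 0], [6, 5, 3, 1, 0, 2, 3, 0], [6, 4, 5, 1, 3, 4, 2, 3, 1, 0, 2, 3, 4, 5, 2, 3, 1, 3, 4, 0, 2, 3, 2, 0], [6, 5, 2, 3, 1, 0, 2, 3, 0], [6, 4,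 5, 1, 3, 4, 2, 3, 1, 0, 2, 3, 4, 5, 2, 3, 1, 2, 3, 4, 0, 2, 3, 2, 0], [6, 5, 2, 0], [4, 5, 2, 0], [6, 3, 4, 5, 1, 3, 4, 2, 3, 1, 0, 2, 3, 4, 5, 2, 3, 1, 2, 3, 4, 0, 2, 3, 2, 0], [6, 5, 2, 3, 0], [6, 3, 4, 5, 1, 3, 4, 2, 3, 1, 0, 2, 3, 4, 5, 2, 3, 1, 3, 4, 0, 2, 3, 2, 0], [6, 5, 1, 2, 3, 0], [6, 3, 4, 5, 1, 3, 4, 2, 3, 1, 0, 2, 3, 4, 5, 2, 3, 1, 4, 0, 2, 3, 2, 0], [6, 5, 0, 2, 3, 0], [6, 3, 4, 5, 1, 3, 4, 2, 3, 1, 0, 2, 3, 4, 5, 2, 3, 1, 4, 0, 2, 3, 2, 0], [6, 5, 1, 0, 2, 3, 0], [6, 3, 4, 5, 1, 3, 4, 2, 3, 1, 0, 2, 3, 4, 5, 2, 3, 1, 3, 4, 0, 2, 3, 2, 0], [6, 5, 2, 3, 1, 0, 2, 3], [6, 3, 4, 5, 1, 3, 4, 2, 3, 1, 0, 2, 3, 4, 5, 2, 3, 1, 2, 3, 4, 0, 2, 3, 2,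 0], [6, 5, 0], [4, 5, 0], [6, 2, 3, 4, 5, 1, 3, 4, 2, 3, 1, 0, 2, 3, 4, 5, 2, 3, 1, 2, 3, 4, 0, 2, 3, 2, 0], [6, 5, 3, 0], [6, 2, 3, 4, 5, 1, 3, 4, 2, 3, 1, 0, 2, 3, 4, 5, 2, 3, 1, 3, 4, 0, 2, 3, 2, 0], [6, 5, 1, 3, 0], [6, 2, 3, 4, 5, 1, 3, 4, 2, 3, 1, 0, 2, 3, 4, 5, 2, 3, 1, 4, 0, 2, 3, 2, 0], [6, 5, 0, 2, 3], [6, 2, 3, 4, 5, 1, 3, 4, 2, 3, 1, 0, 2, 3, 4, 5, 2, 3, 1, 4, 0, 2, 3, 2, 0], [6, 5, 1, 0, 2, 3], [6, 2, 3, 4, 5, 1, 3, 4, 2, 3, 1, 0, 2, 3, 4, 5, 2, 3, 1, 3, 4, 0, 2, 3, 2, 0], [6, 5, 3, 1, 0, 2, 3], [6, 2, 3, 4, 5, 1, 3, 4, 2, 3, 1, 0, 2, 3, 4, 5, 2, 3, 1, 2, 3, 4, 0, 2, 3, 2, 0], [6, 5], [4, 5], [6, 0, 2, 3, 4, 5, 1, 3, 4, 2, 3, 1, 0, 2, 3, 4,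 5, 2, 3, 1, 2, 3, 4, 0, 2, 3, 2, 0], [6, 5, 3], [6, 0, 2, 3, 4, 5, 1, 3, 4, 2, 3, 1, 0, 2, 3, 4, 5, 2, 3, 1, 3, 4, 0, 2, 3, 2, 0], [6, 5, 2, 3], [6, 0, 2, 3, 4, 5, 1, 3, 4, 2, 3, 1, 0, 2, 3, 4, 5, 2, 3, 1, 4, 0, 2, 3, 2, 0], [6, 5, 1, 3], [6, 0, 2, 3, 4, 5, 1, 3, 4, 2, 3, 1, 0, 2, 3, 4, 5, 2, 3, 1, 4, 0, 2, 3, 2, 0], [6, 5, 1, 2, 3], [6, 0, 2, 3, 4, 5, 1, 3, 4, 2, 3, 1, 0, 2, 3, 4, 5, 2, 3, 1, 3, 4, 0, 2, 3, 2, 0], [6, 5, 3, 1, 2, 3], [6, 0, 2, 3, 4, 5, 1, 3, 4, 2, 3, 1, 0, 2, 3, 4, 5, 2, 3, 1, 2, 3, 4, 0, 2, 3, 2, 0]],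
  [[6, 5, 0, 2, 3, 1, 4, 3, 2, 0], [6, 5, 3, 4, 0, 2, 3, 1, 3, 4, 2, 3, 2, 0], [4, 5, 3, 4, 0, 2, 3, 1, 4, 0, 2, 3, 2, 0, 7, 5, 6, 4, 5, 3, 4, 2, 3], [4, 5, 3, 4, 0, 2, 3, 1, 4, 0, 2, 3, 2, 0, 7, 5, 6, 4, 5, 3, 4, 2, 3], [0, 2, 3, 4, 5, 1, 3, 4, 2, 3, 1, 0, 2, 3, 4, 5, 3, 1, 2, 3, 4, 0, 2, 3, 2, 0], [4, 5, 3, 4, 0, 2, 3, 1, 4, 0, 2, 3, 2, 0, 7, 5, 6, 4, 5, 3, 4, 2, 3], [6, 5, 4, 0, 2, 3, 1, 3, 4, 2, 3, 2, 0], [6, 5, 4, 0, 2, 3, 1, 4, 0, 2, 3, 2, 0, 7, 5, 6, 4, 5, 3, 4, 2, 3], [6, 5, 4, 0, 2, 3, 1, 4, 0, 2, 3, 2, 0, 7, 5, 6, 4, 5, 3, 4, 2, 3], [0, 2, 3, 4, 5, 1, 3, 4, 2, 3, 1, 0, 2, 3, 4, 5, 1, 2, 3, 4, 0, 2, 3, 2, 0], [6, 5, 4, 0, 2, 3, 1, 4, 0, 2, 3, 2,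 0, 7, 5, 6, 4, 5, 3, 4, 2, 3], [6, 5, 4, 0, 2, 3, 1, 3, 4, 0, 2, 3, 2, 0], [6, 5, 4, 0, 2, 3, 1, 4, 2, 3, 2, 0, 7, 5, 6, 4, 5, 3, 4, 2, 3], [6, 5, 4, 0, 2, 3, 1, 4, 2, 3, 2, 0, 7, 5, 6, 4, 5, 3, 4, 2, 3], [0, 2, 3, 4, 5, 1, 3, 4, 2, 3, 1, 0, 2, 3, 4, 5, 2, 3, 4, 0, 2, 3, 2, 0], [6, 5, 4, 0, 2, 3, 1, 4, 2, 3, 2, 0, 7, 5, 6, 4, 5, 3, 4, 2, 3], [6, 5, 4, 0, 2, 3, 1, 4, 2, 3, 2, 0], [6, 5, 4, 0, 2, 3, 1, 4, 2, 3, 2, 0, 7, 5, 6, 4, 5, 3, 4, 2, 3], [6, 5, 4, 0, 2, 3, 1, 4, 2, 3, 2, 0, 7, 5, 6, 4, 5, 3, 4, 2, 3], [0, 2, 3, 4, 5, 1, 3, 4, 2, 3, 1, 0, 2, 3, 4, 5, 2, 3, 1, 0, 2, 3, 2, 0], [6, 5, 4, 0, 2, 3, 1, 4, 2, 3, 2, 0, 7, 5, 6, 4, 5, 3, 4, 2, 3], [6, 5, 4,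 0, 2, 3, 1, 4, 0, 2, 3, 2, 0], [6, 5, 4, 0, 2, 3, 1, 4, 0, 2, 3, 2, 0, 7, 5, 6, 4, 5, 3, 4, 2, 3], [6, 5, 4, 0, 2, 3, 1, 4, 0, 2, 3, 2, 0, 7, 5, 6, 4, 5, 3, 4, 2, 3], [0, 2, 3, 4, 5, 1, 3, 4, 2, 3, 1, 0, 2, 3, 4, 5, 2, 3, 4, 0, 2, 3, 0], [6, 5, 4, 0, 2, 3, 1, 4, 0, 2, 3, 2, 0, 7, 5, 6, 4, 5, 3, 4, 2, 3], [6, 5, 3, 4, 0, 2, 3, 1, 4, 0, 2, 3, 2, 0], [4, 5, 3, 4, 0, 2, 3, 1, 4, 0, 2, 3, 2, 0, 7, 5, 6, 4, 5, 3, 4, 2, 3], [4, 5, 3, 4, 0, 2, 3, 1, 4, 0, 2, 3, 2, 0, 7, 5, 6, 4, 5, 3, 4, 2, 3], [0, 2, 3, 4, 5, 1, 3, 4, 2, 3, 1, 0, 2, 3, 4, 5, 2, 3, 4, 0, 2, 3], [4, 5, 3, 4, 0, 2, 3, 1, 4, 0, 2, 3, 2, 0, 7, 5, 6, 4, 5, 3, 4, 2, 3], [6, 5], [0, 2, 3, 4, 5, 1, 3,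 4, 2, 3, 1, 0, 2, 3, 4, 5, 3, 1, 2, 3, 4, 0, 2, 3, 2, 0], [4, 5, 3, 4, 0, 2, 3, 1, 4, 0, 2, 3, 2, 0, 7, 5, 6, 4, 5, 3, 4, 2, 3], [0, 2, 3, 4, 5, 1, 3, 4, 2, 3, 1, 0, 2, 3, 4, 5, 1, 2, 3, 4, 0, 2, 3, 2, 0], [6, 5, 4, 0, 2, 3, 1, 4, 0, 2, 3, 2, 0, 7, 5, 6, 4, 5, 3, 4, 2, 3], [0, 2, 3, 4, 5, 1, 3, 4, 2, 3, 1, 0, 2, 3, 4, 5, 2, 3, 4, 0, 2, 3, 2, 0], [6, 5, 4, 0, 2, 3, 1, 4, 2, 3, 2, 0, 7, 5, 6, 4, 5, 3, 4, 2, 3], [0, 2, 3, 4, 5, 1, 3, 4, 2, 3, 1, 0, 2, 3, 4, 5, 2, 3, 1, 0, 2, 3, 2, 0], [6, 5, 4, 0, 2, 3, 1, 4, 2, 3, 2, 0, 7, 5, 6, 4, 5, 3, 4, 2, 3], [0, 2, 3, 4, 5, 1, 3, 4, 2, 3, 1, 0, 2, 3, 4, 5, 2, 3, 4, 0, 2, 3, 0], [6, 5, 4, 0, 2, 3, 1, 4, 0, 2, 3, 2, 0,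 7, 5, 6, 4, 5, 3, 4, 2, 3], [0, 2, 3, 4, 5, 1, 3, 4, 2, 3, 1, 0, 2, 3, 4, 5, 2, 3, 4, 0, 2, 3], [4, 5, 3, 4, 0, 2, 3, 1, 4, 0, 2, 3, 2, 0, 7, 5, 6, 4, 5, 3, 4, 2, 3]],
  [[6, 5, 0, 2, 3, 1, 4, 3, 2, 0], [6, 5, 0, 2, 3, 1, 4, 3, 2, 0], [4, 5, 3, 4, 0, 2, 3, 1, 4, 0, 2, 3, 2, 0, 7, 3, 1, 0, 2, 3, 4, 5, 6, 3, 1, 2, 3, 4, 5, 3, 1, 2, 3, 4, 0, 2, 3, 2, 0], [4, 5, 3, 4, 0, 2, 3, 1, 4, 0, 2, 3, 2, 0, 7, 5, 4, 3, 1, 2, 3, 4, 5, 3, 1, 2, 3, 7, 3, 1, 0, 2, 3, 4, 5, 6, 3, 1, 2, 3, 4, 5, 3, 1, 2, 3, 4, 0, 2, 3, 2, 0], [4, 5, 3, 1, 2, 3, 7, 3, 1, 0, 2, 3, 4, 5, 6, 3, 1, 2, 3, 4, 5, 3, 1, 2, 3, 4, 0, 2, 3, 2, 0], [4, 5, 3, 4, 0, 2, 3, 1, 4, 0, 2, 3, 2, 0, 7, 5, 4, 3,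 1, 2, 3, 4, 5, 3, 1, 2, 3, 7, 3, 1, 0, 2, 3, 4, 5, 6, 3, 1, 2, 3, 4, 5, 3, 1, 2, 3, 4, 0, 2, 3, 2, 0], [6, 4, 3, 1, 2, 3, 4, 5, 0, 2, 3, 1, 2, 3, 4, 0, 2, 3, 2, 0], [4, 5, 3, 4, 0, 2, 3, 1, 4, 0, 2, 3, 2, 0, 7, 3, 1, 0, 2, 3, 4, 5, 6, 3, 1, 2, 3, 4, 5, 3, 1, 2, 3, 4, 0, 2, 3, 2, 0], [4, 5, 3, 4, 0, 2, 3, 1, 4, 0, 2, 3, 2, 0, 7, 5, 4, 3, 1, 2, 3, 4, 5, 3, 1, 2, 3, 7, 3, 1, 0, 2, 3, 4, 5, 6, 3, 1, 2, 3, 4, 5, 3, 1, 2, 3, 4, 0, 2, 3, 2, 0], [6, 5, 3, 1, 2, 3, 7, 5, 6, 4, 5, 3, 4, 2, 3], [4, 5, 3, 4, 0, 2, 3, 1, 4, 0, 2, 3, 2, 0, 7, 5, 4, 3, 1, 2, 3, 4, 5, 3, 1, 2, 3, 7, 3, 1, 0, 2, 3, 4, 5, 6, 3, 1, 2, 3, 4, 5, 3, 1, 2, 3, 4, 0, 2, 3, 2, 0], [0, 2, 3, 4, 5,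 6, 3, 4, 2, 3, 1, 0, 2, 3, 4, 5, 3, 1, 2, 3, 4, 0, 2, 3, 2, 0], [4, 5, 3, 1, 2, 3, 7, 3, 1, 0, 2, 3, 4, 5, 6, 3, 1, 2, 3, 4, 5, 3, 1, 2, 3, 4, 0, 2, 3, 2, 0], [4, 5, 3, 4, 0, 2, 3, 1, 4, 0, 2, 3, 2, 0, 7, 5, 4, 3, 1, 2, 3, 4, 5, 3, 1, 2, 3, 7, 3, 1, 0, 2, 3, 4, 5, 6, 3, 1, 2, 3, 4, 5, 3, 1, 2, 3, 4, 0, 2, 3, 2, 0], [6, 5, 3, 1, 2, 3, 7, 5, 6, 4, 5, 3, 4, 2, 3], [4, 5, 3, 4, 0, 2, 3, 1, 4, 0, 2, 3, 2, 0, 7, 5, 4, 3, 1, 2, 3, 4, 5, 3, 1, 2, 3, 7, 3, 1, 0, 2, 3, 4, 5, 6, 3, 1, 2, 3, 4, 5, 3, 1, 2, 3, 4, 0, 2, 3, 2, 0]],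
  [[6, 3, 1, 0, 2, 3, 4, 5, 4, 0, 2, 3, 2, 0, 7, 5, 6, 4, 5, 3, 4, 2, 3], [6, 3, 1, 0, 2, 3, 4, 5, 4, 0, 2, 3, 2, 0, 7, 5, 6, 4, 5, 3, 4, 2, 3], [6, 3, 1, 0, 2, 3, 4, 5, 4, 0, 2, 3, 2, 0, 7, 5, 4, 3, 1, 2, 3, 4, 5, 3, 1, 2, 3, 7, 3, 1, 0, 2, 3, 4, 5, 6, 3, 1, 2, 3, 4, 5, 3, 1, 2, 3, 4, 0, 2, 3, 2, 0], [6, 3, 1, 0, 2, 3, 4, 5, 4, 0, 2, 3, 2, 0, 7, 5, 6, 4, 5, 0, 2, 3, 1, 4, 3, 2, 0, 7, 5, 4, 3, 1, 2, 3, 4, 5, 3, 1, 2, 3, 7, 3, 1, 0, 2, 3, 4, 5, 6, 3, 1, 2, 3, 4, 5, 3, 1, 2, 3, 4, 0, 2, 3, 2, 0], [6, 3, 1, 0, 2, 3, 4, 5, 4, 0, 2, 3, 2, 0, 7, 5, 6, 4, 5, 3, 1, 2, 3, 7, 3, 1, 0, 2, 3, 4, 5, 6, 1, 0, 2, 3, 4, 5, 3, 1, 2, 3, 4, 0, 2, 3, 2, 0], [6, 3, 1, 0, 2,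 3, 4, 5, 4, 0, 2, 3, 2, 0, 7, 5, 6, 4, 5, 0, 2, 3, 1, 4, 3, 2, 0, 7, 5, 4, 3, 1, 2, 3, 4, 5, 3, 1, 2, 3, 7, 3, 1, 0, 2, 3, 4, 5, 6, 3, 1, 2, 3, 4, 5, 3, 1, 2, 3, 4, 0, 2, 3, 2, 0], [6, 3, 1, 0, 2, 3, 4, 5, 4, 0, 2, 3, 2, 0, 7, 3, 1, 0, 2, 3, 4, 5, 6, 3, 1, 2, 3, 4, 5, 3, 1, 2, 3, 4, 0, 2, 3, 2, 0], [6, 3, 1, 0, 2, 3, 4, 5, 4, 0, 2, 3, 2, 0, 7, 5, 4, 3, 1, 2, 3, 4, 5, 3, 1, 2, 3, 7, 3, 1, 0, 2, 3, 4, 5, 6, 3, 1, 2, 3, 4, 5, 3, 1, 2, 3, 4, 0, 2, 3, 2, 0], [6, 3, 1, 0, 2, 3, 4, 5, 4, 0, 2, 3, 2, 0, 7, 5, 6, 4, 5, 0, 2, 3, 1, 4, 3, 2, 0, 7, 5, 4, 3, 1, 2, 3, 4, 5, 3, 1, 2, 3, 7, 3, 1, 0, 2, 3, 4, 5, 6, 3, 1, 2, 3, 4, 5, 3, 1, 2, 3, 4, 0, 2, 3, 2, 0], [6, 3,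 1, 0, 2, 3, 4, 5, 4, 0, 2, 3, 2, 0, 7, 5, 6, 4, 5, 0, 2, 3, 1, 4, 3, 2, 0, 7, 5, 6, 4, 5, 3, 4, 2, 3], [6, 3, 1, 0, 2, 3, 4, 5, 4, 0, 2, 3, 2, 0, 7, 5, 6, 4, 5, 0, 2, 3, 1, 4, 3, 2, 0, 7, 5, 4, 3, 1, 2, 3, 4, 5, 3, 1, 2, 3, 7, 3, 1, 0, 2, 3, 4, 5, 6, 3, 1, 2, 3, 4, 5, 3, 1, 2, 3, 4, 0, 2, 3, 2, 0], [6, 3, 1, 0, 2, 3, 4, 5, 4, 0, 2, 3, 2, 0, 7, 3, 1, 0, 2, 3, 4, 5, 6, 1, 0, 2, 3, 4, 5, 3, 1, 2, 3, 4, 0, 2, 3, 2, 0], [6, 3, 1, 0, 2, 3, 4, 5, 4, 0, 2, 3, 2, 0, 7, 5, 6, 4, 5, 3, 1, 2, 3, 7, 3, 1, 0, 2, 3, 4, 5, 6, 1, 0, 2, 3, 4, 5, 3, 1, 2, 3, 4, 0, 2, 3, 2, 0], [6, 3, 1, 0, 2, 3, 4, 5, 4, 0, 2, 3, 2, 0, 7, 5, 6, 4, 5, 0, 2, 3, 1, 4, 3, 2, 0, 7, 5, 4, 3, 1,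 2, 3, 4, 5, 3, 1, 2, 3, 7, 3, 1, 0, 2, 3, 4, 5, 6, 3, 1, 2, 3, 4, 5, 3, 1, 2, 3, 4, 0, 2, 3, 2, 0], [6, 3, 1, 0, 2, 3, 4, 5, 4, 0, 2, 3, 2, 0, 7, 5, 6, 4, 5, 0, 2, 3, 1, 4, 3, 2, 0, 7, 5, 6, 4, 5, 3, 4, 2, 3], [6, 3, 1, 0, 2, 3, 4, 5, 4, 0, 2, 3, 2, 0, 7, 5, 6, 4, 5, 0, 2, 3, 1, 4, 3, 2, 0, 7, 5, 4, 3, 1, 2, 3, 4, 5, 3, 1, 2, 3, 7, 3, 1, 0, 2, 3, 4, 5, 6, 3, 1, 2, 3, 4, 5, 3, 1, 2, 3, 4, 0, 2, 3, 2, 0]]]) goodE7 swap_ok rad6 rfl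
    (by simp [L6, set6_0, set6_1, set6_2, set6_3, set6_4]) (red6 F)

theorem cover : coverOk chevE7 P7 = true := by decide +kernel

/-- Elements squaring to one are conjugate to products of the list. -/
theorem exists_conj {g : GL chevE7.Idx F} (hg : g ∈ chevE7.group F) (h2 : g * g = 1) :
    ∃ h ∈ chevE7.group F, ∃ S ∈ L7, h * g * h⁻¹ = prodX goodE7 S :=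
  exists_conj_prodX goodE7 cover (red7 F) hg h2

end Cfsg.Agent.H65.Inv.E7
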