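import Cfsg.Agent.H65.Inv.Level
import Cfsg.Agent.H65.Chev.Sylow

/-!
Involutions of the whole group from the last level.
-/

set_option autoImplicit false

open Cfsg.Lie Cfsg.Agent.H46

namespace Cfsg.Agent.H65.Inv

variable {D : ChevalleyDatum}

/-- The list contains all positive roots. -/
def coverOk (D : ChevalleyDatum) (P : List ℕ) : Bool :=
  (List.range' (D.nroots / 2) (D.nroots - D.nroots / 2)).all P.contains

variable (G : Good D) {F : Type*} [Field F] [Fintype F] [CharP F 2]

/-- An element squaring to one is conjugate to a product of the list. -/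
theorem exists_conj_prodX {P : List ℕ} {L : List (List ℕ)} (hP : coverOk D P = true) (hred : Reduces F G P L)
    {g : GL D.Idx F} (hg : g ∈ D.group F) (h2 : g * g = 1) :
    ∃ h ∈ D.group F, ∃ S ∈ L, h * g * h⁻¹ = prodX G S := by
  obtain ⟨k, hk, hku⟩ := exists_conj_mem_pos G hg h2
  rw [G.posUnipotent_eq] at hku
  have hmem : k * g * k⁻¹ ∈ G.posSub (F := F) {r | r ∈ P} := by
    refine G.posSub_mono (fun r hr _ => ?_) hku
    simp only [coverOk, List.all_eq_true, List.contains_iff_mem] at hP
    refine hP r ?_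
    rw [← G.posRoots_eq]
    exact List.mem_filter.2 ⟨List.mem_range.2 hr.1, decide_eq_true hr⟩
  obtain ⟨h, hh, S, hS, e⟩ := hred _ hmem
    (by rw [show k * g * k⁻¹ * (k * g * k⁻¹) = k * (g * g) * k⁻¹ by group, h2, mul_one, mul_inv_cancel])
  refine ⟨h * k, mul_mem (rootGrp_le_group G P hh) hk, S, hS, ?_⟩
  rw [← e]
  group

end Cfsg.Agent.H65.Inv
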